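import Mathlib
import Groth.Agent.LocCohLib.Ischebeck
import Groth.Agent.RegLocal.Basic

/-!
# Systems of parameters of regular local rings are regular sequences
-/

open RingTheory.Sequence IsLocalRing CategoryTheory
open scoped Pointwise

namespace Groth.Agent.WildQuotLib

universe u

variable {R : Type u} [CommRing R] [IsNoetherianRing R] [IsLocalRing R]

/-- A local ring whose maximal ideal is minimal over `n` elements has dimension at most `n`. -/
theorem ringKrullDim_le_of_radical (l : List R) (htop : Ideal.ofList l ≠ ⊤)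
    (h : maximalIdeal R ≤ (Ideal.ofList l).radical) :
    ringKrullDim R ≤ l.length := by
  classical
  have hmin : maximalIdeal R ∈ (Ideal.ofList l).minimalPrimes := by
    refine ⟨⟨inferInstance, le_maximalIdeal htop⟩, fun q ⟨hq, hle⟩ _ => ?_⟩
    exact h.trans (hq.radical_le_iff.2 hle)
  have h1 := Ideal.height_le_spanRank_toENat_of_mem_minimalPrimes _ _ hmin
  rw [← IsLocalRing.maximalIdeal_height_eq_ringKrullDim]
  have h2 : (Ideal.ofList l).spanRank.toENat ≤ (l.length : ℕ∞) := by
    have : (Ideal.ofList l).spanRank ≤ Cardinal.mk {x | x ∈ l} := Submodule.spanRank_span_le_card _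
    refine (OrderHomClass.mono Cardinal.toENat this).trans ?_
    rw [show {x | x ∈ l} = (l.toFinset : Set R) by ext; simp]
    have hc : Cardinal.mk (l.toFinset : Set R) = l.toFinset.card := Cardinal.mk_coe_finset
    rw [hc]
    simpa using List.toFinset_card_le l
  exact_mod_cast h1.trans h2

theorem isWeaklyRegular_of_radical : ∀ (l : List R) (J : Ideal R), (J ⊔ Ideal.ofList l) ≠ ⊤ →
    (∃ s : List R, s.length = l.length ∧ (∀ r ∈ s, r ∈ maximalIdeal R) ∧ IsWeaklyRegular (R ⧸ J) s) →
    maximalIdeal R ≤ (J ⊔ Ideal.ofList l).radical → IsWeaklyRegular (R ⧸ J) l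
  | [], _, _, _, _ => IsWeaklyRegular.nil _ _
  | x :: l, J, hne, ⟨s, hs, hsm, hsw⟩, hrad => by
    classical
    have hJ : J ≠ ⊤ := fun h => hne (by rw [h, top_sup_eq])
    haveI : Nontrivial (R ⧸ J) := Ideal.Quotient.nontrivial_iff.2 hJ
    have hxm : x ∈ maximalIdeal R :=
      le_maximalIdeal hne (Ideal.mem_sup_right (Ideal.subset_span (List.mem_cons_self)))
    have hI : maximalIdeal R • (⊤ : Submodule R (R ⧸ J)) ≠ ⊤ := fun h =>
      top_ne_bot (Submodule.eq_bot_of_le_smul_of_le_jacobson_bot (maximalIdeal R) ⊤ Module.Finite.fg_top h.ge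
        (by rw [IsLocalRing.jacobson_eq_maximalIdeal ⊥ bot_ne_top]))
    have hreg : IsSMulRegular (R ⧸ J) x := by
      by_contra hnr
      obtain ⟨P, hP, hxP⟩ : ∃ P ∈ associatedPrimes R (R ⧸ J), x ∈ P := by
        have : x ∈ ⋃ p ∈ associatedPrimes R (R ⧸ J), (p : Set R) := by
          rw [biUnion_associatedPrimes_eq_compl_regular]; exact hnr
        simpa using this
      haveI := hP.isPrime
      -- `Hom(R/P, R/J) ≠ 0`
      obtain ⟨d', hd'⟩ : ∃ d' : ℕ, LocCoh.depth R (R ⧸ J) = d' := by
        obtain ⟨rs, hrs⟩ := Depth.exists_isMaxSeq (M := R ⧸ J) hI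
        exact ⟨rs.length, Depth.idealDepth_eq_length hI hrs⟩
      have hlt : l.length < d' := by
        have h1 : ((x :: l).length : ℕ∞) ≤ LocCoh.depth R (R ⧸ J) :=
          (Depth.le_idealDepth_iff hI _).2 ⟨s, hs, hsm, hsw⟩
        rw [hd'] at h1
        simp only [List.length_cons] at h1
        exact_mod_cast h1
      have hdimP : Module.supportDim R (R ⧸ P) ≤ (l.length : WithBot ℕ∞) := by
        rw [Module.supportDim_quotient_eq_ringKrullDim]
        haveI : Nontrivial (R ⧸ P) := Ideal.Quotient.nontrivial_iff.2 hP.isPrime.ne_top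
        haveI := IsLocalRing.of_surjective' (Ideal.Quotient.mk P) Ideal.Quotient.mk_surjective
        have hJP : J ≤ P := fun j hj => hP.annihilator_le (Submodule.mem_annihilator.2 fun y _ => by
          obtain ⟨y, rfl⟩ := Ideal.Quotient.mk_surjective y
          exact Ideal.Quotient.eq_zero_iff_mem.2 (J.mul_mem_right y hj))
        refine (ringKrullDim_le_of_radical (l.map (Ideal.Quotient.mk P)) ?_ ?_).trans (by simp)
        · intro htop'
          refine (maximalIdeal.isMaximal (R ⧸ P)).ne_top (top_le_iff.1 (htop' ▸ Ideal.span_le.2 fun z hz => ?_))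
          simp only [Set.mem_setOf_eq, List.mem_map] at hz
          obtain ⟨w, hw, rfl⟩ := hz
          have hwm : w ∈ maximalIdeal R :=
            le_maximalIdeal hne (Ideal.mem_sup_right (Ideal.subset_span (List.mem_cons_of_mem x hw)))
          intro hu
          obtain ⟨v, hv⟩ := hu.exists_right_inv
          obtain ⟨v, rfl⟩ := Ideal.Quotient.mk_surjective v
          rw [← map_mul, ← map_one (Ideal.Quotient.mk P), Ideal.Quotient.eq] at hv
          exact (maximalIdeal.isMaximal R).ne_top ((Ideal.eq_top_iff_one _).2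
            (by simpa using Ideal.sub_mem _ ((maximalIdeal R).mul_mem_right v hwm) (le_maximalIdeal hP.isPrime.ne_top hv)))
        intro y hy
        obtain ⟨y, rfl⟩ := Ideal.Quotient.mk_surjective y
        have hym : y ∈ maximalIdeal R := fun hu => hy (hu.map _)
        obtain ⟨e, he⟩ := hrad hym
        refine ⟨e, ?_⟩
        rw [← map_pow, ← Ideal.map_ofList]
        have h2 : J ⊔ Ideal.ofList (x :: l) ≤ P ⊔ Ideal.ofList l := by
          rw [Ideal.ofList_cons]
          exact sup_le (hJP.trans le_sup_left)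
            (sup_le (((Ideal.span_singleton_le_iff_mem P).2 hxP).trans le_sup_left) le_sup_right)
        have h3 := Ideal.mem_map_of_mem (Ideal.Quotient.mk P) (h2 he)
        rwa [Ideal.map_sup, Ideal.map_quotient_self, bot_sup_eq] at h3
      haveI := LocCohLib.subsingleton_ext_of_supportDim (R ⧸ J) d' hd' l.length (R ⧸ P) hdimP 0 (by omega)
      haveI : Subsingleton (ModuleCat.of R (R ⧸ P) ⟶ ModuleCat.of R (R ⧸ J)) :=
        Abelian.Ext.addEquiv₀.symm.injective.subsingleton
      obtain ⟨y, hy⟩ := ((isAssociatedPrime_iff_exists_injective_linearMap _ _).1 hP).2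
      have h0 : ModuleCat.ofHom y = 0 := Subsingleton.elim _ _
      have h1 : y 1 = 0 := LinearMap.congr_fun (ModuleCat.hom_ext_iff.1 h0) 1
      exact hP.isPrime.ne_top ((Ideal.eq_top_iff_one P).2
        (Ideal.Quotient.eq_zero_iff_mem.1 (hy (h1.trans (map_zero y).symm))))
    refine (isWeaklyRegular_cons_iff _ _ _).2 ⟨hreg, ?_⟩
    obtain ⟨t, ht, htm, htw⟩ := Depth.exists_seq_quotSMulTop hI hxm hreg hsw hsm (n := l.length) (by simpa using hs)
    let e : QuotSMulTop x (R ⧸ J) ≃ₗ[R] (R ⧸ (J ⊔ Ideal.span {x})) :=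
      (Submodule.quotEquivOfEq _ _ (by
        rw [← Submodule.ideal_span_singleton_smul]
        refine le_antisymm (Submodule.smul_le.2 fun r hr z _ => ?_) ?_
        · obtain ⟨z, rfl⟩ := Submodule.mkQ_surjective J z
          exact ⟨r * z, Ideal.mem_sup_right (Ideal.mul_mem_right _ _ hr), map_smul J.mkQ r z⟩
        · rintro _ ⟨z, hz, rfl⟩
          obtain ⟨j, hj, r, hr, rfl⟩ := Submodule.mem_sup.1 hz
          rw [map_add, show J.mkQ j = 0 from (Submodule.Quotient.mk_eq_zero J).2 hj, zero_add,
            show J.mkQ r = r • J.mkQ 1 by rw [← map_smul, smul_eq_mul, mul_one]]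
          exact Submodule.smul_mem_smul hr trivial)).trans
        (Submodule.quotientQuotientEquivQuotient J (J ⊔ Ideal.span {x}) le_sup_left)
    rw [LinearEquiv.isWeaklyRegular_congr e] at htw ⊢
    have hJ' : (J ⊔ Ideal.span {x}) ⊔ Ideal.ofList l = J ⊔ Ideal.ofList (x :: l) := by
      rw [Ideal.ofList_cons, sup_assoc]
    exact isWeaklyRegular_of_radical l _ (hJ' ▸ hne) ⟨t, ht, htm, htw⟩ (hJ' ▸ hrad)

/-- In a regular local ring each member of a system of parameters is regular modulo the others. -/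
theorem isSMulRegular_of_sop {A : Type u} [CommRing A] [IsRegularLocalRing A] {n : ℕ} (hn : ringKrullDim A = n)
    (J : Ideal A) (l : List A) (x : A) (hJ : J = Ideal.ofList l) (hlen : l.length + 1 = n)
    (hne : J ⊔ Ideal.span {x} ≠ ⊤) (hrad : maximalIdeal A ≤ (J ⊔ Ideal.span {x}).radical) :
    IsSMulRegular (A ⧸ J) x := by
  obtain ⟨y, hy⟩ := RegLocal.exists_generators (R := A)
  have hd : ringKrullDim A = (maximalIdeal A).spanFinrank :=
    ((isRegularLocalRing_iff A).1 inferInstance).symm
  have hgen : (maximalIdeal A).spanFinrank = n := by exact_mod_cast hd.symm.trans hn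
  have hreg := (RegLocal.isRegular_of_generators (R := A) hd y hy).1
  have hlJ : Ideal.ofList (l ++ [x]) = J ⊔ Ideal.span {x} := by
    rw [Ideal.ofList_append, Ideal.ofList_singleton, hJ]
  let e : (A ⧸ (⊥ : Ideal A)) ≃ₗ[A] A := Submodule.quotEquivOfEqBot ⊥ rfl
  have h := isWeaklyRegular_of_radical (l ++ [x]) (⊥ : Ideal A) (by rwa [bot_sup_eq, hlJ])
    ⟨List.ofFn y, by simp [hgen, hlen], fun r hr => by
      obtain ⟨i, rfl⟩ := List.mem_ofFn.1 hr
      exact hy ▸ Ideal.subset_span ⟨i, rfl⟩, (LinearEquiv.isWeaklyRegular_congr e _).2 hreg⟩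
    (by rwa [bot_sup_eq, hlJ])
  rw [LinearEquiv.isWeaklyRegular_congr e] at h
  have h2 := ((isWeaklyRegular_append_iff A l [x]).1 h).2
  have h3 := ((isWeaklyRegular_cons_iff _ _ _).1 h2).1
  exact (LinearEquiv.isSMulRegular_congr (Submodule.quotEquivOfEq _ _ (by
    rw [smul_eq_mul, Ideal.mul_top, hJ])) x).1 h3

end Groth.Agent.WildQuotLib
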