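import Mathlib
import Groth.Agent.AdicLemmas.Basic

/-!
# Power series rings over fields are complete regular local rings; completeness of finite free algebras
-/

open IsLocalRing

namespace Groth.Agent.WildQuotLib

universe u v

theorem ker_constantCoeff_eq (k : Type u) [CommRing k] : ∀ (n : ℕ),
    RingHom.ker (MvPowerSeries.constantCoeff (σ := Fin n) (R := k)) =
      Ideal.span (Set.range (MvPowerSeries.X : Fin n → MvPowerSeries (Fin n) k)) := by
  intro n
  refine le_antisymm ?_ (Ideal.span_le.2 (by rintro _ ⟨i, rfl⟩; exact MvPowerSeries.constantCoeff_X i))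
  induction n with
  | zero =>
    intro f hf
    have : f = 0 := by
      ext m
      rw [Subsingleton.elim m 0]
      exact (MvPowerSeries.coeff_zero_eq_constantCoeff_apply f).trans hf
    rw [this]; exact zero_mem _
  | succ n ih =>
    intro f hf
    set e := MvPowerSeries.finSuccEquiv k n
    obtain ⟨g, hg⟩ := PowerSeries.X_dvd_iff.2 (show PowerSeries.constantCoeff
      (e f - PowerSeries.C (PowerSeries.constantCoeff (e f))) = 0 by simp)
    have hc : MvPowerSeries.constantCoeff (PowerSeries.constantCoeff (e f)) = 0 := by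
      rw [← MvPowerSeries.coeff_zero_eq_constantCoeff_apply, ← PowerSeries.coeff_zero_eq_constantCoeff_apply,
        MvPowerSeries.coeff_coeff_finSuccEquiv, show Finsupp.cons 0 (0 : Fin n →₀ ℕ) = 0 from Finsupp.cons_zero_zero,
        MvPowerSeries.coeff_zero_eq_constantCoeff_apply]
      exact hf
    have h1 : PowerSeries.constantCoeff (e f) ∈ Ideal.span (Set.range (MvPowerSeries.X : Fin n → _)) := ih hc
    have h2 : e f ∈ Ideal.map e.toRingEquiv.toRingHom (Ideal.span (Set.range (MvPowerSeries.X : Fin (n + 1) → _))) := by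
      rw [Ideal.map_span]
      rw [show e f = PowerSeries.C (PowerSeries.constantCoeff (e f)) + PowerSeries.X * g by rw [← hg]; ring]
      refine add_mem ?_ (Ideal.mul_mem_right _ _ (Ideal.subset_span ⟨_, ⟨0, rfl⟩, MvPowerSeries.finSuccEquiv_X_zero⟩))
      have h3 := Ideal.mem_map_of_mem (PowerSeries.C (R := MvPowerSeries (Fin n) k)) h1
      rw [Ideal.map_span] at h3
      refine Ideal.span_le.2 ?_ h3
      rintro _ ⟨_, ⟨j, rfl⟩, rfl⟩
      exact Ideal.subset_span ⟨_, ⟨j.succ, rfl⟩, MvPowerSeries.finSuccEquiv_X_succ j⟩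
    obtain ⟨z, hz, hz'⟩ := (Ideal.mem_map_iff_of_surjective _ e.toRingEquiv.surjective).1 h2
    rwa [e.injective hz'] at hz

variable (k : Type u) [Field k]

theorem maximalIdeal_eq (n : ℕ) : maximalIdeal (MvPowerSeries (Fin n) k) =
    Ideal.span (Set.range (MvPowerSeries.X : Fin n → MvPowerSeries (Fin n) k)) := by
  rw [← ker_constantCoeff_eq k n]
  ext f
  rw [mem_maximalIdeal, RingHom.mem_ker, mem_nonunits_iff, MvPowerSeries.isUnit_iff_constantCoeff, isUnit_iff_ne_zero,
    not_not]

theorem mem_maximalIdeal_iff_constantCoeff {n : ℕ} (f : MvPowerSeries (Fin n) k) :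
    f ∈ maximalIdeal (MvPowerSeries (Fin n) k) ↔ MvPowerSeries.constantCoeff f = 0 := by
  rw [maximalIdeal_eq, ← ker_constantCoeff_eq, RingHom.mem_ker]

instance isAdicComplete_maximalIdeal (n : ℕ) :
    IsAdicComplete (maximalIdeal (MvPowerSeries (Fin n) k)) (MvPowerSeries (Fin n) k) := by
  rw [maximalIdeal_eq]
  infer_instance

theorem ringKrullDim_eq : ∀ n : ℕ, ringKrullDim (MvPowerSeries (Fin n) k) = n := by
  intro n
  refine le_antisymm ?_ ?_
  · refine (ringKrullDim_le_spanFinrank_maximalIdeal _).trans ?_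
    rw [maximalIdeal_eq]
    refine Nat.cast_le.2 ((Submodule.spanFinrank_span_le_ncard_of_finite (Set.finite_range _)).trans ?_)
    rw [← Set.image_univ]
    exact (Set.ncard_image_le Set.finite_univ).trans (by simp [Set.ncard_univ])
  · induction n with
    | zero => exact ringKrullDim_nonneg_of_nontrivial
    | succ n ih =>
      rw [ringKrullDim_eq_of_ringEquiv (MvPowerSeries.finSuccEquiv k n).toRingEquiv]
      refine le_trans ?_ (ringKrullDim_succ_le_of_surjective PowerSeries.constantCoeff (fun x => ⟨PowerSeries.C x, by simp⟩)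
        (r := PowerSeries.X) ?_ PowerSeries.constantCoeff_X)
      · rw [Nat.cast_add, Nat.cast_one]
        exact add_le_add ih le_rfl
      · rw [mem_nonZeroDivisors_iff_ne_zero]; exact PowerSeries.X_ne_zero

instance isRegularLocalRing (n : ℕ) : IsRegularLocalRing (MvPowerSeries (Fin n) k) := by
  refine (isRegularLocalRing_iff _).2 (le_antisymm ?_ (ringKrullDim_le_spanFinrank_maximalIdeal _))
  rw [ringKrullDim_eq, maximalIdeal_eq]
  refine Nat.cast_le.2 ((Submodule.spanFinrank_span_le_ncard_of_finite (Set.finite_range _)).trans ?_)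
  rw [← Set.image_univ]
  exact (Set.ncard_image_le Set.finite_univ).trans (by simp [Set.ncard_univ])

/-- Finite free modules over an adically complete ring are complete. -/
theorem isAdicComplete_of_basis {R : Type*} [CommRing R] (I : Ideal R) [IsAdicComplete I R] {M : Type*}
    [AddCommGroup M] [Module R M] {ι : Type*} [Fintype ι] (b : Module.Basis ι R M) : IsAdicComplete I M := by
  classical
  have hsmul : ∀ (k : ℕ) (v : M), v ∈ (I ^ k • ⊤ : Submodule R M) ↔ ∀ i, b.repr v i ∈ I ^ k := by
    intro k v
    constructor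
    · intro hv i
      refine Submodule.smul_induction_on hv (fun a ha w _ => ?_) (fun x y hx hy => ?_)
      · rw [map_smul, Finsupp.smul_apply, smul_eq_mul]; exact Ideal.mul_mem_right _ _ ha
      · rw [map_add, Finsupp.add_apply]; exact add_mem hx hy
    · intro hv
      rw [← b.sum_repr v]
      exact sum_mem fun i _ => Submodule.smul_mem_smul (hv i) trivial
  have hH : IsHausdorff I M := by
    refine ⟨fun x hx => b.ext_elem fun i => ?_⟩
    rw [map_zero, Finsupp.zero_apply]
    refine IsHausdorff.haus (I := I) inferInstance _ fun k => SModEq.zero.2 ?_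
    rw [smul_eq_mul, Ideal.mul_top]
    exact (hsmul k x).1 (SModEq.zero.1 (hx k)) i
  have hP : IsPrecomplete I M := by
    refine ⟨fun s hs => ?_⟩
    have hcau : ∀ i, ∀ {a c : ℕ}, a ≤ c → b.repr (s a) i ≡ b.repr (s c) i [SMOD (I ^ a • ⊤ : Submodule R R)] :=
      fun i {a c} hac => by
        rw [SModEq.sub_mem, smul_eq_mul, Ideal.mul_top, ← Finsupp.sub_apply, ← map_sub]
        exact (hsmul a _).1 (SModEq.sub_mem.1 (hs hac)) i
    choose L hL using fun i => IsPrecomplete.prec (I := I) (M := R) inferInstance (hcau i)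
    refine ⟨∑ i, L i • b i, fun k => SModEq.sub_mem.2 ((hsmul k _).2 fun i => ?_)⟩
    have := SModEq.sub_mem.1 (hL i k)
    rw [smul_eq_mul, Ideal.mul_top] at this
    rwa [map_sub, Finsupp.sub_apply, b.repr_sum_self]
  constructor

/-- Completeness only depends on the topology. -/
theorem isAdicComplete_of_pow_le {A : Type*} [CommRing A] {I J : Ideal A} (hIJ : I ≤ J) {N : ℕ} (hN : 0 < N)
    (hJI : J ^ N ≤ I) {M : Type*} [AddCommGroup M] [Module A M] [IsAdicComplete I M] : IsAdicComplete J M := by
  have hle : ∀ k, (J ^ (N * k) • ⊤ : Submodule A M) ≤ (I ^ k • ⊤ : Submodule A M) := fun k =>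
    Submodule.smul_mono_left (by rw [pow_mul]; exact Ideal.pow_right_mono hJI k)
  have hle' : ∀ k, (I ^ k • ⊤ : Submodule A M) ≤ (J ^ k • ⊤ : Submodule A M) := fun k =>
    Submodule.smul_mono_left (Ideal.pow_right_mono hIJ k)
  have hH : IsHausdorff J M := ⟨fun x hx => IsHausdorff.haus (I := I) inferInstance x fun k =>
    SModEq.mono (hle k) (hx (N * k))⟩
  have hP : IsPrecomplete J M := by
    refine ⟨fun f hf => ?_⟩
    obtain ⟨L, hL⟩ := IsPrecomplete.prec (I := I) (M := M) inferInstance (f := fun k => f (N * k))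
      (fun {a c} h => SModEq.mono (hle a) (hf (Nat.mul_le_mul_left N h)))
    exact ⟨L, fun k => (hf (Nat.le_mul_of_pos_left k hN)).trans (SModEq.mono (hle' k) (hL k))⟩
  constructor

end Groth.Agent.WildQuotLib
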