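import Mathlib
import Groth.Agent.AdicRingLib.Maps
import Groth.Agent.AdicLemmas.Basic
import Groth.Agent.WildQuotLib.PSReg
import Groth.Agent.WildQuotLib.SOP

/-!
# Complete regular local rings with a coefficient field over parameter power series rings
-/

open IsLocalRing

namespace Groth.Agent.WildQuotLib

universe u v

section Eval

variable {k : Type v} [CommRing k] {A : Type u} [CommRing A] [Algebra k A] (K : Ideal A) [IsAdicComplete K A] {n : ℕ}

/-- Evaluation of power series at elements of the defining ideal. -/
theorem exists_psHom (b : Fin n → A) (hb : ∀ i, b i ∈ K) :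
    ∃ g : MvPowerSeries (Fin n) k →ₐ[k] A, ∀ i, g (MvPowerSeries.X i) = b i := by
  let J := MvPolynomial.idealOfVars (Fin n) k
  let f : MvPolynomial (Fin n) k →ₐ[k] A := MvPolynomial.aeval b
  have hf : J.map f ≤ K := by
    rw [Ideal.map_le_iff_le_comap]
    refine Ideal.span_le.mpr (Set.range_subset_iff.mpr fun i => ?_)
    change f (MvPolynomial.X i) ∈ K
    rw [MvPolynomial.aeval_X]
    exact hb i
  obtain ⟨G, hG⟩ := AdicRingLib.exists_algHom_completion (R := k) J K f hf
  refine ⟨G.comp ((MvPowerSeries.toAdicCompletionAlgEquiv (Fin n) k).restrictScalars k).toAlgHom, fun i => ?_⟩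
  have e := (MvPowerSeries.toAdicCompletionAlgEquiv (Fin n) k).commutes (MvPolynomial.X i)
  rw [show algebraMap (MvPolynomial (Fin n) k) (MvPowerSeries (Fin n) k) (MvPolynomial.X i) = MvPowerSeries.X i by
    simp [MvPowerSeries.algebraMap_apply']] at e
  change G (MvPowerSeries.toAdicCompletionAlgEquiv (Fin n) k (MvPowerSeries.X i)) = b i
  rw [e, hG, MvPolynomial.aeval_X]

/-- Evaluation is determined by the values at the variables. -/
theorem psHom_ext {g g' : MvPowerSeries (Fin n) k →ₐ[k] A} (hg : ∀ i, g (MvPowerSeries.X i) ∈ K)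
    (h : ∀ i, g (MvPowerSeries.X i) = g' (MvPowerSeries.X i)) : g = g' := by
  let J := MvPolynomial.idealOfVars (Fin n) k
  let e := (MvPowerSeries.toAdicCompletionAlgEquiv (Fin n) k).restrictScalars k
  have he : ∀ p, e.symm (algebraMap (MvPolynomial (Fin n) k) _ p) =
      algebraMap (MvPolynomial (Fin n) k) (MvPowerSeries (Fin n) k) p :=
    fun p => (MvPowerSeries.toAdicCompletionAlgEquiv (Fin n) k).symm.commutes p
  have hX : ∀ i, algebraMap (MvPolynomial (Fin n) k) (MvPowerSeries (Fin n) k) (MvPolynomial.X i) =
      MvPowerSeries.X i := fun i => by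
    simp [MvPowerSeries.algebraMap_apply']
  have key : g.comp e.symm.toAlgHom = g'.comp e.symm.toAlgHom := by
    refine AdicRingLib.algHom_completion_ext (K := K) (MvPolynomial.idealOfVars_fg (Fin n) k) (fun p hp => ?_) fun p => ?_
    · change p ∈ Ideal.span (Set.range MvPolynomial.X) at hp
      change g (e.symm (algebraMap _ _ p)) ∈ K
      rw [he]
      refine (Ideal.span_le.mpr (Set.range_subset_iff.mpr fun i => ?_) :
        Ideal.span (Set.range MvPolynomial.X) ≤ K.comap ((g.toRingHom).comp (algebraMap (MvPolynomial (Fin n) k) _))) hp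
      change g (algebraMap (MvPolynomial (Fin n) k) (MvPowerSeries (Fin n) k) (MvPolynomial.X i)) ∈ K
      rw [hX]
      exact hg i
    · change g (e.symm (algebraMap _ _ p)) = g' (e.symm (algebraMap _ _ p))
      rw [he]
      have : g.comp (IsScalarTower.toAlgHom k (MvPolynomial (Fin n) k) (MvPowerSeries (Fin n) k)) =
          g'.comp (IsScalarTower.toAlgHom k (MvPolynomial (Fin n) k) (MvPowerSeries (Fin n) k)) :=
        MvPolynomial.algHom_ext fun i => by
          change g (algebraMap (MvPolynomial (Fin n) k) (MvPowerSeries (Fin n) k) (MvPolynomial.X i)) =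
            g' (algebraMap (MvPolynomial (Fin n) k) (MvPowerSeries (Fin n) k) (MvPolynomial.X i))
          rw [hX]; exact h i
      exact DFunLike.congr_fun this p
  refine AlgHom.ext fun x => ?_
  rw [← e.symm_apply_apply x]
  exact DFunLike.congr_fun key (e x)

end Eval

section Regular

variable {A : Type u} [CommRing A] [IsRegularLocalRing A] {n : ℕ}

/-- Members of a system of parameters are regular modulo the previous ones. -/
theorem prefix_regular (hn : ringKrullDim A = n) (x : Fin n → A)
    (hx : (Ideal.span (Set.range x)).radical = maximalIdeal A) (j : Fin n) {a : A}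
    (ha : x j * a ∈ Ideal.span (x '' {l | l < j})) : a ∈ Ideal.span (x '' {l | l < j}) := by
  obtain ⟨y, hy⟩ := RegLocal.exists_generators (R := A)
  have hd : ringKrullDim A = (maximalIdeal A).spanFinrank := ((isRegularLocalRing_iff A).1 inferInstance).symm
  have hgen : (maximalIdeal A).spanFinrank = n := by exact_mod_cast hd.symm.trans hn
  have hreg := (RegLocal.isRegular_of_generators (R := A) hd y hy).1
  let e : (A ⧸ (⊥ : Ideal A)) ≃ₗ[A] A := Submodule.quotEquivOfEqBot ⊥ rfl
  have hof : Ideal.ofList (List.ofFn x) = Ideal.span (Set.range x) := by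
    rw [Ideal.ofList]; congr 1; ext z; simp [List.mem_ofFn]
  have hne : Ideal.span (Set.range x) ≠ ⊤ := fun h => by
    rw [h, Ideal.radical_top] at hx
    exact (maximalIdeal.isMaximal A).ne_top hx.symm
  have h := isWeaklyRegular_of_radical (List.ofFn x) (⊥ : Ideal A) (by rwa [bot_sup_eq, hof])
    ⟨List.ofFn y, by simp [hgen], fun r hr => by
      obtain ⟨i, rfl⟩ := List.mem_ofFn.1 hr
      exact hy ▸ Ideal.subset_span ⟨i, rfl⟩, (LinearEquiv.isWeaklyRegular_congr e _).2 hreg⟩
    (by rw [bot_sup_eq, hof, hx])
  rw [LinearEquiv.isWeaklyRegular_congr e, RingTheory.Sequence.isWeaklyRegular_iff] at h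
  have h2 := h j (by simp)
  have hset : (Ideal.ofList ((List.ofFn x).take j) • ⊤ : Submodule A A) = Ideal.span (x '' {l | l < j}) := by
    rw [smul_eq_mul, Ideal.mul_top, Ideal.ofList]
    congr 1
    ext z
    simp only [Set.mem_setOf_eq, List.mem_take_iff_getElem, List.length_ofFn, Set.mem_image, List.getElem_ofFn]
    constructor
    · rintro ⟨i, hi, rfl⟩
      exact ⟨⟨i, by omega⟩, Fin.lt_def.2 (by simp; omega), rfl⟩
    · rintro ⟨l, hl, rfl⟩
      exact ⟨l, by have := Fin.lt_def.1 hl; omega, rfl⟩
  rw [List.getElem_ofFn] at h2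
  have h3 : Submodule.Quotient.mk (p := (Ideal.ofList ((List.ofFn x).take j) • ⊤ : Submodule A A)) a = 0 := by
    refine h2 ?_
    dsimp only
    rw [smul_zero, ← Submodule.Quotient.mk_smul, Submodule.Quotient.mk_eq_zero, hset, smul_eq_mul]
    exact ha
  rwa [Submodule.Quotient.mk_eq_zero, hset] at h3

variable [IsAdicComplete (maximalIdeal A) A] {k : Type v} [Field k] [Algebra k A]

/-- A complete regular local ring is free over the power series ring of a system of parameters. -/
theorem exists_basis_ps (hn : ringKrullDim A = n) (hk : Function.Surjective (residue A ∘ algebraMap k A))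
    (x : Fin n → A) (hx : (Ideal.span (Set.range x)).radical = maximalIdeal A)
    (φ : MvPowerSeries (Fin n) k →ₐ[k] A) (hφ : ∀ i, φ (MvPowerSeries.X i) = x i) :
    ∃ (d : ℕ) (b : Fin d → A), (d : ℕ∞) = Module.length A (A ⧸ Ideal.span (Set.range x)) ∧
      Function.Bijective (fun r : Fin d → MvPowerSeries (Fin n) k => ∑ i, φ (r i) * b i) := by
  classical
  set m := maximalIdeal A with hm
  set Q := Ideal.span (Set.range x) with hQ
  have hQm : Q ≤ m := hx ▸ Ideal.le_radical
  -- the residue ring
  haveI : IsLocalHom (algebraMap k A) := ⟨fun c hc => by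
    rcases eq_or_ne c 0 with rfl | hc0
    · rw [map_zero] at hc; exact absurd hc not_isUnit_zero
    · exact hc0.isUnit⟩
  have hκ : Module.length (ResidueField k) (ResidueField A) = 1 := by
    have hsurj : Function.Surjective (algebraMap (ResidueField k) (ResidueField A)) := fun y => by
      obtain ⟨c, hc⟩ := hk y
      exact ⟨residue k c, hc⟩
    rw [← Module.length_eq_one (R := ResidueField k) (M := ResidueField k)]
    exact (LinearEquiv.ofBijective (Algebra.linearMap (ResidueField k) (ResidueField A))
      ⟨RingHom.injective _, hsurj⟩).symm.length_eq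
  have hlen : Module.length k (A ⧸ Q) = Module.length A (A ⧸ Q) := by
    rw [IsLocalRing.length_restrictScalars k A (A ⧸ Q), hκ, mul_one]
  obtain ⟨N, hN⟩ : ∃ N, m ^ N ≤ Q := Ideal.exists_pow_le_of_le_radical_of_fg hx.ge m.fg_of_isNoetherianRing
  have hfin : Module.length A (A ⧸ Q) ≠ ⊤ := by
    haveI : IsLocalRing (A ⧸ Q) := RegLocal.isLocalRing_quot (fun h => (maximalIdeal.isMaximal A).ne_top (top_le_iff.1 (h ▸ hQm)))
    haveI : IsArtinianRing (A ⧸ Q) := by
      refine (isArtinianRing_iff_isNilpotent_maximalIdeal _).2 ⟨N, ?_⟩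
      rw [RegLocal.maximalIdeal_quot (fun h => (maximalIdeal.isMaximal A).ne_top (top_le_iff.1 (h ▸ hQm))),
        ← Ideal.map_pow, Ideal.zero_eq_bot, ← le_bot_iff, Ideal.map_le_iff_le_comap, ← RingHom.ker_eq_comap_bot,
        Ideal.mk_ker]
      exact hN
    haveI : IsArtinian A (A ⧸ Q) := isArtinian_of_surjective_algebraMap (R := A ⧸ Q) (S := A) Ideal.Quotient.mk_surjective
    exact Module.length_ne_top
  haveI : IsNoetherian k (A ⧸ Q) := by
    have : IsFiniteLength k (A ⧸ Q) := Module.length_ne_top_iff.1 (hlen ▸ hfin)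
    exact (isFiniteLength_iff_isNoetherian_isArtinian.1 this).1
  let β := Module.finBasis k (A ⧸ Q)
  choose b hb using fun i => Ideal.Quotient.mk_surjective (β i)
  refine ⟨_, b, (Module.length_eq_finrank k (A ⧸ Q)).symm.trans hlen, ?_, ?_⟩
  swap
  · -- spanning
    letI : Algebra (MvPowerSeries (Fin n) k) A := φ.toRingHom.toAlgebra
    set S := MvPowerSeries (Fin n) k
    set I := maximalIdeal S with hI
    have hIle : I.map (algebraMap S A) = Q := by
      rw [hI, maximalIdeal_eq, Ideal.map_span, hQ, ← Set.range_comp]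
      exact congrArg _ (congrArg Set.range (funext hφ))
    let f : (Fin (Module.finrank k (A ⧸ Q)) → S) →ₗ[S] A := Fintype.linearCombination S b
    haveI := isAdicComplete_of_basis I (Pi.basisFun S (Fin (Module.finrank k (A ⧸ Q))))
    haveI : IsHausdorff I A := ⟨fun a ha => IsHausdorff.haus (I := m) inferInstance a fun l => by
      have := SModEq.zero.1 (ha l)
      rw [Ideal.smul_top_eq_map, Submodule.restrictScalars_mem, Ideal.map_pow, hIle] at this
      rw [SModEq.zero, smul_eq_mul, Ideal.mul_top]
      exact Ideal.pow_right_mono hQm l this⟩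
    have hf : Function.Surjective f := by
      refine surjective_of_mkQ_comp_surjective (I := I) fun y => ?_
      obtain ⟨a, rfl⟩ := Submodule.Quotient.mk_surjective _ y
      refine ⟨fun i => algebraMap k S (β.repr (Ideal.Quotient.mk Q a) i), ?_⟩
      show Submodule.Quotient.mk (f _) = Submodule.Quotient.mk a
      rw [Submodule.Quotient.eq, Ideal.smul_top_eq_map, Submodule.restrictScalars_mem, hIle,
        ← Ideal.Quotient.eq, Fintype.linearCombination_apply, map_sum]
      conv_rhs => rw [← β.sum_repr (Ideal.Quotient.mk Q a)]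
      refine Finset.sum_congr rfl fun i _ => ?_
      rw [show algebraMap k S (β.repr (Ideal.Quotient.mk Q a) i) • b i =
          algebraMap k A (β.repr (Ideal.Quotient.mk Q a) i) * b i from congrArg (· * b i) (φ.commutes _),
        map_mul, hb, Ideal.Quotient.mk_algebraMap, ← Algebra.smul_def]
    intro a
    obtain ⟨r, hr⟩ := hf a
    exact ⟨r, hr⟩
  -- independence
  let P : ℕ → Ideal (MvPowerSeries (Fin n) k) := fun j =>
    Ideal.span (MvPowerSeries.X '' {l : Fin n | (l : ℕ) < j})
  let I' : ℕ → Ideal A := fun j => Ideal.span (x '' {l : Fin n | (l : ℕ) < j})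
  have hPmap : ∀ j, (P j).map φ.toRingHom = I' j := fun j => by
    rw [Ideal.map_span, ← Set.image_comp]
    exact congrArg _ (Set.image_congr fun l _ => hφ l)
  have key : ∀ i : ℕ, i ≤ n → ∀ r : Fin _ → MvPowerSeries (Fin n) k, ∑ l, φ (r l) * b l ∈ I' (n - i) →
      ∀ l, r l ∈ P (n - i) := by
    intro i
    induction i with
    | zero =>
      intro _ r hr l
      have hall : {l : Fin n | (l : ℕ) < n - 0} = Set.univ := Set.eq_univ_of_forall fun l => l.2
      have hP : P (n - 0) = maximalIdeal (MvPowerSeries (Fin n) k) := by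
        simp only [P]; rw [hall, Set.image_univ, maximalIdeal_eq]
      have hI : I' (n - 0) = Q := by
        simp only [I']; rw [hall, Set.image_univ]
      rw [hI, ← Ideal.Quotient.eq_zero_iff_mem, map_sum] at hr
      have hc : ∀ l, Ideal.Quotient.mk Q (φ (r l) * b l) = MvPowerSeries.constantCoeff (r l) • β l := fun l => by
        have h1 : r l - algebraMap k _ (MvPowerSeries.constantCoeff (r l)) ∈ maximalIdeal (MvPowerSeries (Fin n) k) :=
          (mem_maximalIdeal_iff_constantCoeff k _).2 (by simp [MvPowerSeries.algebraMap_apply])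
        rw [← hP] at h1
        have h2 := Ideal.mem_map_of_mem φ.toRingHom h1
        rw [hPmap, hI] at h2
        have h3 : Ideal.Quotient.mk Q (φ (r l)) = algebraMap k (A ⧸ Q) (MvPowerSeries.constantCoeff (r l)) := by
          rw [← Ideal.Quotient.mk_algebraMap, Ideal.Quotient.eq, ← φ.commutes, ← map_sub]
          exact h2
        rw [map_mul, hb, h3, Algebra.smul_def]
      simp only [hc] at hr
      rw [hP, mem_maximalIdeal_iff_constantCoeff]
      exact Fintype.linearIndependent_iff.1 β.linearIndependent _ hr l
    | succ i ih =>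
      intro hi r hr
      have hj : n - (i + 1) < n := by omega
      set j : Fin n := ⟨n - (i + 1), hj⟩ with hjdef
      have hji : n - i = (j : ℕ) + 1 := by simp [hjdef]; omega
      have hset : {l : Fin n | (l : ℕ) < n - i} = insert j {l : Fin n | (l : ℕ) < (j : ℕ)} := by
        ext l
        simp only [Set.mem_setOf_eq, Set.mem_insert_iff, hji, Fin.ext_iff]
        omega
      have hP : P (n - i) = P j ⊔ Ideal.span {MvPowerSeries.X j} := by
        simp only [P]; rw [hset, Set.image_insert_eq, Ideal.span_insert, sup_comm]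
      have hreg : ∀ a, x j * a ∈ I' j → a ∈ I' j := fun a ha => by
        have hlt : {l : Fin n | (l : ℕ) < (j : ℕ)} = {l | l < j} := rfl
        simp only [I'] at ha ⊢
        rw [hlt] at ha ⊢
        exact prefix_regular hn x hx j ha
      have hsub : I' j ≤ I' (n - i) := by
        simp only [I']
        exact Ideal.span_mono (Set.image_mono fun l hl => by simp only [Set.mem_setOf_eq, hji] at hl ⊢; omega)
      have hpow : ∀ (M : ℕ) (r : Fin _ → MvPowerSeries (Fin n) k), ∑ l, φ (r l) * b l ∈ I' j →
          ∀ l, r l ∈ P j ⊔ Ideal.span {MvPowerSeries.X j} ^ M := by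
        intro M
        induction M with
        | zero => intro r _ l; rw [pow_zero, Ideal.one_eq_top, sup_top_eq]; trivial
        | succ M ihM =>
          intro r hr
          have h1 := ih (by omega) r (hsub hr)
          simp only [hP, Submodule.mem_sup, Ideal.mem_span_singleton'] at h1
          choose s hs z hz hsz using h1
          choose t ht using hz
          have h2 : x j * ∑ l, φ (t l) * b l ∈ I' j := by
            have e1 : x j * ∑ l, φ (t l) * b l = ∑ l, φ (r l) * b l - ∑ l, φ (s l) * b l := by
              rw [Finset.mul_sum, ← Finset.sum_sub_distrib]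
              refine Finset.sum_congr rfl fun l _ => ?_
              rw [← hsz l, ← ht l, map_add, map_mul, hφ]
              ring
            rw [e1]
            refine sub_mem hr (sum_mem fun l _ => Ideal.mul_mem_right _ _ ?_)
            rw [← hPmap]
            exact Ideal.mem_map_of_mem φ.toRingHom (hs l)
          have h3 := ihM t (hreg _ h2)
          intro l
          rw [← hsz l, ← ht l]
          refine add_mem (Ideal.mem_sup_left (hs l)) ?_
          obtain ⟨s', hs', z', hz', he⟩ := Submodule.mem_sup.1 (h3 l)
          rw [← he, add_mul]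
          refine add_mem (Ideal.mem_sup_left (Ideal.mul_mem_right _ _ hs')) (Ideal.mem_sup_right ?_)
          rw [pow_succ]
          exact Ideal.mul_mem_mul hz' (Ideal.mem_span_singleton_self _)
      intro l
      show r l ∈ P j
      have hlt : Ideal.span {(MvPowerSeries.X j : MvPowerSeries (Fin n) k)} ≠ ⊤ := by
        rw [Ne, Ideal.span_singleton_eq_top, MvPowerSeries.isUnit_iff_constantCoeff, MvPowerSeries.constantCoeff_X]
        exact not_isUnit_zero
      have hK := Ideal.iInf_pow_smul_eq_bot_of_isLocalRing (M := MvPowerSeries (Fin n) k ⧸ P j) _ hlt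
      rw [← Ideal.Quotient.eq_zero_iff_mem, ← Submodule.mem_bot (MvPowerSeries (Fin n) k), ← hK, Submodule.mem_iInf]
      intro M
      obtain ⟨s', hs', z', hz', he⟩ := Submodule.mem_sup.1 (hpow M r hr l)
      rw [← he, map_add, Ideal.Quotient.eq_zero_iff_mem.2 hs', zero_add,
        show Ideal.Quotient.mk (P j) z' = z' • (1 : MvPowerSeries (Fin n) k ⧸ P j) from (congrArg (Ideal.Quotient.mk (P j)) (mul_one z')).symm]
      exact Submodule.smul_mem_smul hz' trivial
  intro r r' hrr
  funext l
  have h0 : ∑ l, φ (r l - r' l) * b l ∈ I' (n - n) := by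
    simp only [map_sub, sub_mul, Finset.sum_sub_distrib]
    rw [show ∑ l, φ (r l) * b l = ∑ l, φ (r' l) * b l from hrr, sub_self]
    exact Ideal.zero_mem _
  have h1 := key n le_rfl _ h0 l
  simp only [Nat.sub_self, P] at h1
  simpa [sub_eq_zero] using h1

end Regular

end Groth.Agent.WildQuotLib
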