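import Mathlib

/-!
# Quotients of polynomial rings by monic polynomials in separate variables
-/

open MvPolynomial

namespace Groth.Agent.WildQuotLib

universe u v

section

variable {R : Type u} [CommRing R] {σ : Type v}

/-- The ideal generated by `f i (X i)`. -/
noncomputable def monicIdeal (f : σ → Polynomial R) : Ideal (MvPolynomial σ R) :=
  Ideal.span (Set.range fun i => Polynomial.aeval (X i) (f i))

/-- The generators. -/
noncomputable def gen (f : σ → Polynomial R) (i : σ) : MvPolynomial σ R ⧸ monicIdeal f :=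
  Ideal.Quotient.mk _ (X i)

theorem aeval_gen (f : σ → Polynomial R) (i : σ) : Polynomial.aeval (gen f i) (f i) = 0 := by
  rw [show gen f i = Ideal.Quotient.mkₐ R (monicIdeal f) (X i) from rfl, Polynomial.aeval_algHom_apply]
  exact Ideal.Quotient.eq_zero_iff_mem.2 (Ideal.subset_span ⟨i, rfl⟩)

theorem adjoin_gen (f : σ → Polynomial R) : Algebra.adjoin R (Set.range (gen f)) = ⊤ := by
  rw [show Set.range (gen f) = Ideal.Quotient.mkₐ R (monicIdeal f) '' Set.range X by rw [← Set.range_comp]; rfl,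
    Algebra.adjoin_image, MvPolynomial.adjoin_range_X, Algebra.map_top]
  exact (AlgHom.range_eq_top _).2 (Ideal.Quotient.mkₐ_surjective R _)

theorem hom_ext (f : σ → Polynomial R) {B : Type*} [CommRing B] [Algebra R B]
    {φ ψ : (MvPolynomial σ R ⧸ monicIdeal f) →ₐ[R] B} (h : ∀ i, φ (gen f i) = ψ (gen f i)) : φ = ψ :=
  Ideal.Quotient.algHom_ext R (MvPolynomial.algHom_ext h)

/-- The map out of the quotient given by roots. -/
noncomputable def lift (f : σ → Polynomial R) {B : Type*} [CommRing B] [Algebra R B] (b : σ → B)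
    (hb : ∀ i, Polynomial.aeval (b i) (f i) = 0) : (MvPolynomial σ R ⧸ monicIdeal f) →ₐ[R] B :=
  Ideal.Quotient.liftₐ (monicIdeal f) (MvPolynomial.aeval b) fun x hx => by
    have hle : monicIdeal f ≤ RingHom.ker (MvPolynomial.aeval b) := Ideal.span_le.2 (by
      rintro _ ⟨i, rfl⟩
      rw [SetLike.mem_coe, RingHom.mem_ker, ← Polynomial.aeval_algHom_apply, MvPolynomial.aeval_X, hb])
    exact hle hx

@[simp] theorem lift_gen (f : σ → Polynomial R) {B : Type*} [CommRing B] [Algebra R B] (b : σ → B)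
    (hb : ∀ i, Polynomial.aeval (b i) (f i) = 0) (i : σ) : lift f b hb (gen f i) = b i :=
  (Ideal.Quotient.lift_mk _ _ _).trans (MvPolynomial.aeval_X b i)

end

variable {R : Type u} [CommRing R]

theorem exists_basis : ∀ (n : ℕ) (f : Fin n → Polynomial R), (∀ i, (f i).Monic) → ∀ (d : Fin n → ℕ),
    (∀ i, (f i).natDegree = d i) →
    ∃ b : Module.Basis ((i : Fin n) → Fin (d i)) R (MvPolynomial (Fin n) R ⧸ monicIdeal f),
      ∀ e, b e = ∏ i, gen f i ^ (e i : ℕ) := by
  intro n
  induction n with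
  | zero =>
    intro f _ d _
    have hI : monicIdeal f = ⊥ := by
      rw [monicIdeal, Set.range_eq_empty, Ideal.span_empty]
    let e : (MvPolynomial (Fin 0) R ⧸ monicIdeal f) ≃ₐ[R] R :=
      (Ideal.quotientEquivAlgOfEq R hI).trans ((AlgEquiv.quotientBot R _).trans (MvPolynomial.isEmptyAlgEquiv R (Fin 0)))
    refine ⟨(Module.Basis.singleton ((i : Fin 0) → Fin (d i)) R).map e.symm.toLinearEquiv, fun x => ?_⟩
    simp
  | succ n ih =>
    intro f hf d hd
    obtain ⟨b₀, hb₀⟩ := ih (fun i => f i.succ) (fun i => hf _) (fun i => d i.succ) (fun i => hd _)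
    let S := MvPolynomial (Fin n) R ⧸ monicIdeal (fun i : Fin n => f i.succ)
    let g : Polynomial S := (f 0).map (algebraMap R S)
    rcases subsingleton_or_nontrivial R with hR | hR
    · haveI : Subsingleton (MvPolynomial (Fin (n + 1)) R ⧸ monicIdeal f) := Module.subsingleton R _
      haveI : IsEmpty ((i : Fin (n + 1)) → Fin (d i)) := ⟨fun e => by
        have h0 : d 0 = 0 := by rw [← hd 0, Subsingleton.elim (f 0) 0, Polynomial.natDegree_zero]
        exact absurd ((e 0).2.trans_eq h0) (Nat.not_lt_zero _)⟩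
      exact ⟨Module.Basis.empty _, fun e => isEmptyElim e⟩
    rcases subsingleton_or_nontrivial S with hS | hS
    · -- then some `d i` vanishes
      haveI : IsEmpty ((i : Fin n) → Fin (d i.succ)) := ⟨fun e => b₀.ne_zero e (Subsingleton.elim _ _)⟩
      haveI : IsEmpty ((i : Fin (n + 1)) → Fin (d i)) := ⟨fun e => isEmptyElim fun i : Fin n => e i.succ⟩
      haveI : Subsingleton (MvPolynomial (Fin (n + 1)) R ⧸ monicIdeal f) := by
        let φ : S →ₐ[R] MvPolynomial (Fin (n + 1)) R ⧸ monicIdeal f :=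
          lift _ (fun i : Fin n => gen f i.succ) fun i => aeval_gen f i.succ
        exact subsingleton_of_zero_eq_one (by rw [← map_zero φ, ← map_one φ, Subsingleton.elim (0 : S) 1])
      exact ⟨Module.Basis.empty _, fun e => isEmptyElim e⟩
    have hg : g.Monic := (hf 0).map _
    have hgd : g.natDegree = d 0 := by rw [(hf 0).natDegree_map, hd]
    let φ : (MvPolynomial (Fin (n + 1)) R ⧸ monicIdeal f) →ₐ[R] AdjoinRoot g :=
      lift f (Fin.cons (AdjoinRoot.root g) fun i => AdjoinRoot.of g (gen _ i)) (by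
        intro i
        cases i using Fin.cases with
        | zero =>
          rw [Fin.cons_zero, ← Polynomial.aeval_map_algebraMap S, AdjoinRoot.aeval_eq, AdjoinRoot.mk_self]
        | succ i =>
          rw [Fin.cons_succ, show AdjoinRoot.of g (gen (fun j : Fin n => f j.succ) i) =
            IsScalarTower.toAlgHom R S (AdjoinRoot g) (gen _ i) from rfl, Polynomial.aeval_algHom_apply,
            aeval_gen (fun j : Fin n => f j.succ) i, map_zero])
    let ι : S →ₐ[R] MvPolynomial (Fin (n + 1)) R ⧸ monicIdeal f :=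
      lift _ (fun i : Fin n => gen f i.succ) fun i => aeval_gen f i.succ
    have hι : ∀ i : Fin n, ι (gen (fun j : Fin n => f j.succ) i) = gen f i.succ := fun i => lift_gen _ _ _ i
    let ψ : AdjoinRoot g →ₐ[R] MvPolynomial (Fin (n + 1)) R ⧸ monicIdeal f :=
      AdjoinRoot.liftAlgHom g ι (gen f 0) (by
        rw [Polynomial.eval₂_map]
        convert aeval_gen f 0 using 1
        rw [Polynomial.aeval_def]
        congr 1
        exact ι.comp_algebraMap)
    have h1 : ψ.comp φ = AlgHom.id R _ := hom_ext f fun i => by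
      cases i using Fin.cases <;> simp [φ, ψ, hι]
    have h2 : φ.comp ψ = AlgHom.id R _ := by
      refine AdjoinRoot.algHom_ext' (hom_ext _ fun i => ?_) ?_
      · simp [φ, ψ, hι]
      · simp [φ, ψ, hι]
    let e : AdjoinRoot g ≃ₐ[R] MvPolynomial (Fin (n + 1)) R ⧸ monicIdeal f := AlgEquiv.ofAlgHom ψ φ h1 h2
    let b₁ := ((AdjoinRoot.powerBasis' hg).basis.reindex (finCongr (by rw [AdjoinRoot.powerBasis'_dim, hgd])))
    let b := ((b₀.smulTower b₁).map e.toLinearEquiv).reindex
      ((Equiv.prodComm _ _).trans (Fin.consEquiv fun i : Fin (n + 1) => Fin (d i)))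
    refine ⟨b, fun x => ?_⟩
    simp only [b, Module.Basis.reindex_apply, Module.Basis.map_apply]
    rw [Fin.prod_univ_succ]
    simp [b₁, e, ψ, hb₀, hι, Algebra.smul_def, mul_comm, Fin.tail]

/-- The monomial basis for a finite index type. -/
theorem exists_basis' {σ : Type v} [Fintype σ] (f : σ → Polynomial R) (hf : ∀ i, (f i).Monic) (d : ℕ)
    (hd : ∀ i, (f i).natDegree = d) :
    ∃ b : Module.Basis (σ → Fin d) R (MvPolynomial σ R ⧸ monicIdeal f), ∀ e, b e = ∏ i, gen f i ^ (e i : ℕ) := by
  let ε := Fintype.equivFin σ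
  obtain ⟨b₀, hb₀⟩ := exists_basis (R := R) (Fintype.card σ) (fun j => f (ε.symm j)) (fun j => hf _) (fun _ => d)
    (fun j => hd _)
  let φ : (MvPolynomial (Fin (Fintype.card σ)) R ⧸ monicIdeal fun j => f (ε.symm j)) →ₐ[R]
      MvPolynomial σ R ⧸ monicIdeal f := lift _ (fun j => gen f (ε.symm j)) fun j => aeval_gen f (ε.symm j)
  let ψ : (MvPolynomial σ R ⧸ monicIdeal f) →ₐ[R]
      MvPolynomial (Fin (Fintype.card σ)) R ⧸ monicIdeal fun j => f (ε.symm j) :=
    lift f (fun i => gen _ (ε i)) fun i => by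
      have := aeval_gen (fun j => f (ε.symm j)) (ε i)
      rwa [Equiv.symm_apply_apply] at this
  have h1 : φ.comp ψ = AlgHom.id R _ := hom_ext f fun i => by simp [φ, ψ]
  have h2 : ψ.comp φ = AlgHom.id R _ := hom_ext _ fun j => by simp [φ, ψ]
  let e := AlgEquiv.ofAlgHom φ ψ h1 h2
  refine ⟨(b₀.map e.toLinearEquiv).reindex (Equiv.arrowCongr ε.symm (Equiv.refl _)), fun x => ?_⟩
  rw [Module.Basis.reindex_apply, Module.Basis.map_apply, hb₀]
  show φ _ = _
  rw [map_prod]
  refine Fintype.prod_equiv ε.symm _ _ fun j => ?_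
  simp [φ]

theorem free_quotient {σ : Type v} [Fintype σ] (f : σ → Polynomial R) (hf : ∀ i, (f i).Monic) (d : ℕ)
    (hd : ∀ i, (f i).natDegree = d) :
    Module.Free R (MvPolynomial σ R ⧸ monicIdeal f) ∧ Module.Finite R (MvPolynomial σ R ⧸ monicIdeal f) := by
  classical
  obtain ⟨b, -⟩ := exists_basis' f hf d hd
  exact ⟨Module.Free.of_basis b, Module.Finite.of_basis b⟩

end Groth.Agent.WildQuotLib
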