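import Mathlib
import Groth.Agent.WildQuotLib.MonicQuot
import Groth.Agent.GrSegreLib.Dim

/-!
# Artin–Schreier type families
-/

open MvPolynomial IsLocalRing

namespace Groth.Agent.WildQuotLib

universe u v

variable {R : Type u} [CommRing R] {σ : Type v}

/-- The polynomial `T ^ p - a ^ (p - 1) T - d`. -/
noncomputable def asPoly (p : ℕ) (a d : σ → R) (i : σ) : Polynomial R :=
  Polynomial.X ^ p - Polynomial.C (a i ^ (p - 1)) * Polynomial.X - Polynomial.C (d i)

theorem aeval_asPoly (p : ℕ) (a d : σ → R) (i : σ) {B : Type*} [CommRing B] [Algebra R B] (b : B) :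
    Polynomial.aeval b (asPoly p a d i) =
      b ^ p - algebraMap R B (a i ^ (p - 1)) * b - algebraMap R B (d i) := by
  simp [asPoly]

theorem monicIdeal_asPoly (p : ℕ) (a d : σ → R) : monicIdeal (asPoly p a d) =
    Ideal.span (Set.range fun i : σ => X i ^ p - C (a i ^ (p - 1)) * X i - C (d i)) := by
  unfold monicIdeal
  simp only [aeval_asPoly, MvPolynomial.algebraMap_eq]

/-- The ring of the family. -/
abbrev ASRing (p : ℕ) (a d : σ → R) : Type (max u v) := MvPolynomial σ R ⧸ monicIdeal (asPoly p a d)

theorem gen_rel (p : ℕ) (a d : σ → R) (i : σ) :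
    gen (asPoly p a d) i ^ p =
      algebraMap R (ASRing p a d) (a i ^ (p - 1)) * gen (asPoly p a d) i + algebraMap R (ASRing p a d) (d i) := by
  have := aeval_gen (asPoly p a d) i
  rw [aeval_asPoly] at this
  linear_combination this

theorem monic_asPoly {p : ℕ} (hp : p.Prime) (a d : σ → R) (i : σ) : (asPoly p a d i).Monic := by
  rw [asPoly, sub_sub]
  refine Polynomial.monic_X_pow_sub (lt_of_le_of_lt (Polynomial.degree_add_le _ _) (max_lt ?_ ?_))
  · exact lt_of_le_of_lt ((Polynomial.degree_mul_le _ _).trans (add_le_add Polynomial.degree_C_le Polynomial.degree_X_le))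
      (by simpa using hp.one_lt)
  · exact lt_of_le_of_lt Polynomial.degree_C_le (by simpa using hp.pos)

theorem natDegree_asPoly [Nontrivial R] {p : ℕ} (hp : p.Prime) (a d : σ → R) (i : σ) :
    (asPoly p a d i).natDegree = p := by
  refine Polynomial.natDegree_eq_of_degree_eq_some ?_
  rw [asPoly, sub_sub]
  rw [Polynomial.degree_sub_eq_left_of_degree_lt] <;> rw [Polynomial.degree_X_pow]
  refine lt_of_le_of_lt (Polynomial.degree_add_le _ _) (max_lt ?_ ?_)
  · exact lt_of_le_of_lt ((Polynomial.degree_mul_le _ _).trans (add_le_add Polynomial.degree_C_le Polynomial.degree_X_le))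
      (by simpa using hp.one_lt)
  · exact lt_of_le_of_lt Polynomial.degree_C_le (by simpa using hp.pos)

variable [Fintype σ] [Nontrivial R] {p : ℕ} [hp : Fact p.Prime]

theorem exists_basis_AS (a d : σ → R) : ∃ b : Module.Basis (σ → Fin p) R (ASRing p a d),
    ∀ e, b e = ∏ i, gen (asPoly p a d) i ^ (e i : ℕ) :=
  exists_basis' _ (monic_asPoly hp.out a d) p (natDegree_asPoly hp.out a d)

theorem free_AS (a d : σ → R) : Module.Free R (ASRing p a d) ∧ Module.Finite R (ASRing p a d) := by
  classical
  obtain ⟨b, -⟩ := exists_basis_AS (p := p) a d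
  exact ⟨Module.Free.of_basis b, Module.Finite.of_basis b⟩

theorem finrank_AS (a d : σ → R) : Module.finrank R (ASRing p a d) = p ^ Fintype.card σ := by
  classical
  obtain ⟨b, -⟩ := exists_basis_AS (p := p) a d
  rw [Module.finrank_eq_card_basis b, Fintype.card_fun, Fintype.card_fin]

theorem algebraMap_injective_AS (a d : σ → R) : Function.Injective (algebraMap R (ASRing p a d)) := by
  classical
  obtain ⟨b, -⟩ := exists_basis_AS (p := p) a d
  haveI := (free_AS (p := p) a d).1
  haveI : Nontrivial (ASRing p a d) := ⟨⟨_, _, b.ne_zero (fun _ => ⟨0, hp.out.pos⟩)⟩⟩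
  exact FaithfulSMul.algebraMap_injective R _

section Local

variable [IsLocalRing R]
variable (a d : σ → R) (ha : ∀ i, a i ∈ maximalIdeal R) (hd : Ideal.span (Set.range d) = maximalIdeal R)

include ha hd

theorem map_maximalIdeal_le : (maximalIdeal R).map (algebraMap R (ASRing p a d)) ≤
    Ideal.span (Set.range (gen (asPoly p a d))) := by
  rw [← hd, Ideal.map_span, Ideal.span_le]
  rintro _ ⟨_, ⟨i, rfl⟩, rfl⟩
  have h : algebraMap R (ASRing p a d) (d i) =
      gen (asPoly p a d) i ^ p - algebraMap R (ASRing p a d) (a i ^ (p - 1)) * gen (asPoly p a d) i := by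
    rw [gen_rel, add_sub_cancel_left]
  rw [SetLike.mem_coe, h]
  exact sub_mem (Ideal.pow_mem_of_mem _ (Ideal.subset_span (Set.mem_range_self i)) _ hp.out.pos)
    (Ideal.mul_mem_left _ _ (Ideal.subset_span (Set.mem_range_self i)))

theorem gen_pow_mem (i : σ) : gen (asPoly p a d) i ^ p ∈ (maximalIdeal R).map (algebraMap R (ASRing p a d)) := by
  rw [gen_rel]
  exact add_mem (Ideal.mul_mem_right _ _ (Ideal.mem_map_of_mem _
    (Ideal.pow_mem_of_mem _ (ha i) _ (by have := hp.out.two_le; omega))))
    (Ideal.mem_map_of_mem _ (hd ▸ Ideal.subset_span (Set.mem_range_self i) : d i ∈ maximalIdeal R))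

theorem isMaximal_span_gen : (Ideal.span (Set.range (gen (asPoly p a d)))).IsMaximal := by
  classical
  have hroot : ∀ i, Polynomial.aeval (0 : ResidueField R) (asPoly p a d i) = 0 := fun i => by
    rw [aeval_asPoly, zero_pow hp.out.ne_zero, mul_zero, sub_zero, zero_sub, neg_eq_zero,
      ResidueField.algebraMap_eq, residue_eq_zero_iff]
    rw [← hd]; exact Ideal.subset_span (Set.mem_range_self i)
  let φ := lift (asPoly p a d) (fun _ => (0 : ResidueField R)) hroot
  have hφ : Function.Surjective φ := fun x => by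
    obtain ⟨r, rfl⟩ := residue_surjective x
    exact ⟨algebraMap R _ r, φ.commutes r⟩
  have hker : RingHom.ker φ = Ideal.span (Set.range (gen (asPoly p a d))) := by
    refine le_antisymm (fun x hx => ?_) (Ideal.span_le.2 ?_)
    · obtain ⟨b, hb⟩ := exists_basis_AS (p := p) a d
      obtain ⟨r, hr⟩ : ∃ r : R, x - algebraMap R _ r ∈ Ideal.span (Set.range (gen (asPoly p a d))) := by
        clear hx
        induction (b.mem_span x) using Submodule.span_induction with
        | mem y hy =>
          obtain ⟨e, rfl⟩ := hy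
          rw [hb]
          by_cases he : ∀ i, (e i : ℕ) = 0
          · exact ⟨1, by simp [he]⟩
          · push Not at he
            obtain ⟨i, hi⟩ := he
            refine ⟨0, ?_⟩
            rw [map_zero, sub_zero, ← Finset.mul_prod_erase _ _ (Finset.mem_univ i)]
            exact Ideal.mul_mem_right _ _ (Ideal.pow_mem_of_mem _ (Ideal.subset_span (Set.mem_range_self i)) _ (Nat.pos_of_ne_zero hi))
        | zero => exact ⟨0, by simp⟩
        | add y z _ _ hy hz =>
          obtain ⟨r, hr⟩ := hy
          obtain ⟨s, hs⟩ := hz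
          exact ⟨r + s, by rw [map_add, add_sub_add_comm]; exact add_mem hr hs⟩
        | smul c y _ hy =>
          obtain ⟨r, hr⟩ := hy
          exact ⟨c * r, by
            rw [show c • y = algebraMap R (ASRing p a d) c * y from Algebra.smul_def c y, map_mul, ← mul_sub]
            exact Ideal.mul_mem_left _ _ hr⟩
      have hle : Ideal.span (Set.range (gen (asPoly p a d))) ≤ RingHom.ker φ := Ideal.span_le.2 (by
        rintro _ ⟨i, rfl⟩; exact lift_gen _ _ _ i)
      have h2 := RingHom.mem_ker.1 (hle hr)
      rw [map_sub, RingHom.mem_ker.1 hx, zero_sub, neg_eq_zero, φ.commutes, ResidueField.algebraMap_eq,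
        residue_eq_zero_iff] at h2
      rw [← sub_add_cancel x (algebraMap R _ r)]
      exact add_mem hr (map_maximalIdeal_le a d ha hd (Ideal.mem_map_of_mem _ h2))
    · rintro _ ⟨i, rfl⟩
      exact lift_gen _ _ _ i
  rw [← hker]
  exact RingHom.ker_isMaximal_of_surjective φ hφ

theorem eq_span_gen (M : Ideal (ASRing p a d)) [hM : M.IsMaximal] : M = Ideal.span (Set.range (gen (asPoly p a d))) := by
  haveI := (free_AS (p := p) a d).2
  haveI : Algebra.IsIntegral R (ASRing p a d) := Algebra.IsIntegral.of_finite R _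
  have hm : M.comap (algebraMap R (ASRing p a d)) = maximalIdeal R :=
    IsLocalRing.eq_maximalIdeal (Ideal.isMaximal_comap_of_isIntegral_of_isMaximal M)
  refine ((isMaximal_span_gen a d ha hd).eq_of_le hM.ne_top (Ideal.span_le.2 ?_)).symm
  rintro _ ⟨i, rfl⟩
  exact hM.isPrime.mem_of_pow_mem p ((Ideal.map_le_iff_le_comap.2 hm.ge) (gen_pow_mem a d ha hd i))

theorem isLocalRing_AS : IsLocalRing (ASRing p a d) :=
  IsLocalRing.of_unique_max_ideal ⟨_, isMaximal_span_gen a d ha hd, fun M hM => by
    haveI : M.IsMaximal := hM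
    exact eq_span_gen a d ha hd M⟩

theorem isRegularLocalRing_AS [IsNoetherianRing R] (hdim : ringKrullDim R = Fintype.card σ) :
    IsRegularLocalRing (ASRing p a d) := by
  classical
  haveI := isLocalRing_AS (p := p) a d ha hd
  haveI := (free_AS (p := p) a d).2
  haveI : IsNoetherianRing (ASRing p a d) := IsNoetherianRing.of_finite R _
  refine (isRegularLocalRing_iff _).2 (le_antisymm ?_ (ringKrullDim_le_spanFinrank_maximalIdeal _))
  have hmax : maximalIdeal (ASRing p a d) = Ideal.span (Set.range (gen (asPoly p a d))) :=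
    (IsLocalRing.eq_maximalIdeal (isMaximal_span_gen a d ha hd)).symm
  rw [← GrSegreLib.ringKrullDim_eq_of_integral_injective _ (algebraMap_injective_AS (p := p) a d)
    (algebraMap_isIntegral_iff.2 (Algebra.IsIntegral.of_finite R _)), hdim, hmax]
  refine Nat.cast_le.2 ((Submodule.spanFinrank_span_le_ncard_of_finite (Set.finite_range _)).trans ?_)
  rw [← Set.image_univ]
  exact (Set.ncard_image_le Set.finite_univ).trans (by simp [Set.ncard_univ])

end Local

section Roots

variable [CharP R p]

omit [Fintype σ] [Nontrivial R] in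
theorem charP_AS (a d : σ → R) [Nontrivial (ASRing p a d)] : CharP (ASRing p a d) p := by
  refine (CharP.charP_iff_prime_eq_zero hp.out).2 ?_
  rw [← map_natCast (algebraMap R (ASRing p a d)), CharP.cast_eq_zero, map_zero]

variable (a d : σ → R) [IsDomain (ASRing p a d)]

omit [Nontrivial R] [Fintype σ] in
theorem root_iff (i : σ) (ha : algebraMap R (ASRing p a d) (a i) ≠ 0) (b : ASRing p a d) :
    Polynomial.aeval b (asPoly p a d i) = 0 ↔
      ∃ j : ℕ, j < p ∧ b = gen (asPoly p a d) i + (j : ASRing p a d) * algebraMap R _ (a i) := by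
  haveI := charP_AS (p := p) a d
  set u := gen (asPoly p a d) i
  set c := algebraMap R (ASRing p a d) (a i)
  have hu := gen_rel p a d i
  have key : ∀ t : ASRing p a d, Polynomial.aeval (u + t) (asPoly p a d i) = t ^ p - c ^ (p - 1) * t := fun t => by
    rw [aeval_asPoly, add_pow_char, hu, map_pow]
    ring
  have hc : ∀ j : ℕ, ((j : ASRing p a d) * c) ^ p - c ^ (p - 1) * ((j : ASRing p a d) * c) = 0 := fun j => by
    rw [mul_pow, ← frobenius_def, map_natCast, mul_left_comm, ← pow_succ, Nat.sub_add_cancel hp.out.one_le, sub_self]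
  constructor
  · intro hb
    obtain ⟨t, rfl⟩ : ∃ t, b = u + t := ⟨b - u, by ring⟩
    rw [key] at hb
    let q : Polynomial (ASRing p a d) := Polynomial.X ^ p - Polynomial.C (c ^ (p - 1)) * Polynomial.X
    have hq : q.natDegree = p := by
      refine Polynomial.natDegree_eq_of_degree_eq_some ?_
      rw [Polynomial.degree_sub_eq_left_of_degree_lt] <;> rw [Polynomial.degree_X_pow]
      exact lt_of_le_of_lt ((Polynomial.degree_mul_le _ _).trans
        (add_le_add Polynomial.degree_C_le Polynomial.degree_X_le)) (by simpa using hp.out.one_lt)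
    have hq0 : q ≠ 0 := fun h => by rw [h, Polynomial.natDegree_zero] at hq; exact hp.out.ne_zero hq.symm
    classical
    let S := (Finset.range p).image fun j : ℕ => (j : ASRing p a d) * c
    have hS : S.card = p := by
      rw [Finset.card_image_of_injOn, Finset.card_range]
      intro j hj j' hj' h
      exact CharP.natCast_injOn_Iio (ASRing p a d) p (Finset.mem_range.1 hj) (Finset.mem_range.1 hj')
        (mul_right_cancel₀ ha h)
    have hsub : S ⊆ q.roots.toFinset := fun y hy => by
      obtain ⟨j, -, rfl⟩ := Finset.mem_image.1 hy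
      rw [Multiset.mem_toFinset, Polynomial.mem_roots hq0, Polynomial.IsRoot.def]
      simp only [q, Polynomial.eval_sub, Polynomial.eval_pow, Polynomial.eval_X, Polynomial.eval_mul, Polynomial.eval_C]
      exact hc j
    have heq : S = q.roots.toFinset :=
      Finset.eq_of_subset_of_card_le hsub (((Multiset.toFinset_card_le _).trans (Polynomial.card_roots' _)).trans
        (hq.trans hS.symm).le)
    have ht : t ∈ q.roots.toFinset := by
      rw [Multiset.mem_toFinset, Polynomial.mem_roots hq0, Polynomial.IsRoot.def]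
      simp only [q, Polynomial.eval_sub, Polynomial.eval_pow, Polynomial.eval_X, Polynomial.eval_mul, Polynomial.eval_C]
      exact hb
    rw [← heq] at ht
    obtain ⟨j, hj, rfl⟩ := Finset.mem_image.1 ht
    exact ⟨j, Finset.mem_range.1 hj, rfl⟩
  · rintro ⟨j, -, rfl⟩
    rw [key, hc]

end Roots

section Shift

variable [CharP R p] (a d : σ → R)

omit [Fintype σ] [Nontrivial R] in
theorem shift_root (s : σ → R) (hs : ∀ i, s i ^ p = a i ^ (p - 1) * s i) [Nontrivial (ASRing p a d)] (i : σ) :
    Polynomial.aeval (gen (asPoly p a d) i + algebraMap R (ASRing p a d) (s i)) (asPoly p a d i) = 0 := by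
  haveI := charP_AS (p := p) a d
  rw [aeval_asPoly, add_pow_char, gen_rel, ← map_pow _ (s i) p, hs, map_mul]
  ring

omit [Fintype σ] [Nontrivial R] in
theorem exists_shift (s : σ → R) (hs : ∀ i, s i ^ p = a i ^ (p - 1) * s i) [Nontrivial (ASRing p a d)] :
    ∃ τ : ASRing p a d ≃ₐ[R] ASRing p a d,
      ∀ i, τ (gen (asPoly p a d) i) = gen (asPoly p a d) i + algebraMap R _ (s i) := by
  have hs' : ∀ i, (-s i) ^ p = a i ^ (p - 1) * -s i := fun i => by
    rw [neg_pow, hs, mul_neg, neg_one_pow_char R p]
    ring
  let φ := lift (asPoly p a d) (fun i => gen (asPoly p a d) i + algebraMap R (ASRing p a d) (s i)) (shift_root a d s hs)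
  let ψ := lift (asPoly p a d) (fun i => gen (asPoly p a d) i + algebraMap R (ASRing p a d) (-s i))
    (shift_root a d (fun i => -s i) hs')
  refine ⟨AlgEquiv.ofAlgHom φ ψ (hom_ext _ fun i => ?_) (hom_ext _ fun i => ?_), fun i => lift_gen (asPoly p a d) _ (shift_root a d s hs) i⟩
  · simp [φ, ψ]
  · simp [φ, ψ]

end Shift

end Groth.Agent.WildQuotLib
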