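import Mathlib
import Groth.Agent.WildQuotLib.Family
import Groth.Agent.WildQuotLib.PSReg
import Groth.Agent.RegLocal.Basic

/-!
# Artin–Schreier families over power series rings: fixed elements
-/

open MvPolynomial IsLocalRing

namespace Groth.Agent.WildQuotLib

universe u v

/-- A polynomial expression of degree `< p` in `v` fixed by a translation of `v` is constant. -/
theorem eq_coeff_zero_of_fixed {A : Type u} [CommRing A] [IsDomain A] {p : ℕ} [hp : Fact p.Prime] [CharP A p]
    {F : Type*} [FunLike F A A] [RingHomClass F A A] (τ : F) {v c : A} (hc : c ≠ 0) (hτv : τ v = v + c) (hτc : τ c = c)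
    (g : Fin p → A) (hg : ∀ k, τ (g k) = g k) (hfix : τ (∑ k, g k * v ^ (k : ℕ)) = ∑ k, g k * v ^ (k : ℕ)) :
    (∑ k, g k * v ^ (k : ℕ)) = g ⟨0, hp.out.pos⟩ := by
  classical
  set f := ∑ k, g k * v ^ (k : ℕ) with hf
  have hj : ∀ j : ℕ, ∑ k, g k * (v + (j : A) * c) ^ (k : ℕ) = f := by
    intro j
    induction j with
    | zero => simp [hf]
    | succ j ih =>
      have h := congrArg (fun z => τ z) ih
      simp only [map_sum, map_mul, map_pow, map_add, map_natCast, hg, hτv, hτc, hfix] at h
      rw [← h]
      refine Finset.sum_congr rfl fun k _ => ?_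
      push_cast; ring
  let P : Polynomial A := (∑ k : Fin p, Polynomial.monomial (k : ℕ) (g k)) - Polynomial.C f
  have heval : ∀ x, P.eval x = (∑ k, g k * x ^ (k : ℕ)) - f := fun x => by
    simp [P, Polynomial.eval_finsetSum]
  have hP : P = 0 := by
    refine Polynomial.eq_zero_of_natDegree_lt_card_of_eval_eq_zero P
      (f := fun j : Fin p => v + ((j : ℕ) : A) * c) ?_ ?_ ?_
    · intro j j' h
      exact Fin.ext (CharP.natCast_injOn_Iio A p j.2 j'.2 (mul_right_cancel₀ hc (add_left_cancel h)))
    · intro j
      rw [heval, hj, sub_self]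
    · rw [Fintype.card_fin]
      refine lt_of_le_of_lt (Polynomial.natDegree_le_iff_coeff_eq_zero.2 fun N hN => ?_) (Nat.sub_lt hp.out.pos one_pos)
      simp only [P, Polynomial.coeff_sub, Polynomial.finsetSum_coeff, Polynomial.coeff_monomial, Polynomial.coeff_C]
      rw [if_neg (by omega), sub_zero]
      exact Finset.sum_eq_zero fun k _ => if_neg (by omega)
  have h0 := congrArg (fun q => Polynomial.coeff q 0) hP
  simp only [P, Polynomial.coeff_sub, Polynomial.finsetSum_coeff, Polynomial.coeff_monomial, Polynomial.coeff_C_zero,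
    Polynomial.coeff_zero] at h0
  rw [Finset.sum_eq_single (⟨0, hp.out.pos⟩ : Fin p)] at h0
  · simp at h0
    have h1 : g ⟨0, hp.out.pos⟩ = g 0 := rfl
    linear_combination -h0 - h1
  · intro k _ hk
    exact if_neg fun h => hk (Fin.ext h)
  · simp

variable {R : Type u} [CommRing R] [Nontrivial R] {σ : Type v} [Fintype σ] {p : ℕ} [hp : Fact p.Prime] [CharP R p]

/-- Elements fixed by the coordinate translations are constants. -/
theorem mem_range_of_fixed (a d : σ → R) [IsDomain (ASRing p a d)] (ha : ∀ i, a i ≠ 0)
    (τ : σ → ASRing p a d →ₐ[R] ASRing p a d)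
    (hτi : ∀ i, τ i (gen (asPoly p a d) i) = gen (asPoly p a d) i + algebraMap R _ (a i))
    (hτj : ∀ i j, j ≠ i → τ i (gen (asPoly p a d) j) = gen (asPoly p a d) j)
    (x : ASRing p a d) (hx : ∀ i, τ i x = x) : x ∈ Set.range (algebraMap R (ASRing p a d)) := by
  classical
  haveI := charP_AS (p := p) a d
  obtain ⟨b, hb⟩ := exists_basis_AS (p := p) a d
  -- `V S`: monomials supported in `S`
  let V : Finset σ → Submodule R (ASRing p a d) := fun S =>
    Submodule.span R ((fun e : σ → Fin p => ∏ j, gen (asPoly p a d) j ^ (e j : ℕ)) '' {e | ∀ j ∉ S, (e j : ℕ) = 0})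
  have key : ∀ S : Finset σ, ∀ x ∈ V S, (∀ i, τ i x = x) → x ∈ V ∅ := by
    intro S
    induction S using Finset.induction_on with
    | empty => exact fun x hx _ => hx
    | @insert i S hi ih =>
      intro x hx hfix
      refine ih x ?_ hfix
      obtain ⟨g, hg, hxg⟩ : ∃ g : Fin p → ASRing p a d, (∀ k, g k ∈ V S) ∧ x = ∑ k, g k * gen (asPoly p a d) i ^ (k : ℕ) := by
        clear hfix
        induction hx using Submodule.span_induction with
        | mem y hy =>
          obtain ⟨e, he, rfl⟩ := hy
          refine ⟨fun k => if k = e i then ∏ j, gen (asPoly p a d) j ^ ((Function.update e i ⟨0, hp.out.pos⟩) j : ℕ) else 0,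
            fun k => ?_, ?_⟩
          · dsimp only
            split_ifs
            · refine Submodule.subset_span ⟨_, fun j hj => ?_, rfl⟩
              by_cases hji : j = i
              · subst hji; simp
              · rw [Function.update_of_ne hji]; exact he j (by simp [hji, hj])
            · exact Submodule.zero_mem _
          · simp only [ite_mul, zero_mul, Finset.sum_ite_eq', Finset.mem_univ, if_true]
            rw [← Finset.mul_prod_erase _ (fun j => gen (asPoly p a d) j ^ (e j : ℕ)) (Finset.mem_univ i),
              ← Finset.mul_prod_erase _ _ (Finset.mem_univ i), Function.update_self]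
            simp only [pow_zero, one_mul]
            rw [mul_comm]
            congr 1
            exact Finset.prod_congr rfl fun j hj => by rw [Function.update_of_ne (Finset.ne_of_mem_erase hj)]
        | zero => exact ⟨0, fun k => Submodule.zero_mem _, by simp⟩
        | add y z _ _ hy hz =>
          obtain ⟨g, hg, rfl⟩ := hy
          obtain ⟨g', hg', rfl⟩ := hz
          exact ⟨g + g', fun k => add_mem (hg k) (hg' k), by simp [add_mul, Finset.sum_add_distrib]⟩
        | smul c y _ hy =>
          obtain ⟨g, hg, rfl⟩ := hy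
          exact ⟨c • g, fun k => Submodule.smul_mem _ _ (hg k), by simp [Finset.smul_sum, smul_mul_assoc]⟩
      have hgfix : ∀ y ∈ V S, τ i y = y := fun y hy => by
        induction hy using Submodule.span_induction with
        | mem y hy =>
          obtain ⟨e, he, rfl⟩ := hy
          rw [map_prod]
          refine Finset.prod_congr rfl fun j _ => ?_
          by_cases hji : j = i
          · subst hji; rw [he j hi]; simp
          · rw [map_pow, hτj i j hji]
        | zero => exact map_zero _
        | add y z _ _ hy hz => rw [map_add, hy, hz]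
        | smul c y _ hy => rw [map_smul, hy]
      have hc : algebraMap R (ASRing p a d) (a i) ≠ 0 := fun h =>
        ha i (algebraMap_injective_AS a d (h.trans (map_zero _).symm))
      rw [hxg, eq_coeff_zero_of_fixed (τ i) hc (hτi i) ((τ i).commutes _) g (fun k => hgfix _ (hg k))
        (hxg ▸ hfix i)]
      exact hg _
  have hmem : x ∈ V Finset.univ := by
    refine Submodule.span_mono ?_ (b.mem_span x)
    rintro _ ⟨e, rfl⟩
    exact ⟨e, fun j hj => absurd (Finset.mem_univ j) hj, (hb e).symm⟩
  have h0 := key _ x hmem hx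
  clear hx hmem
  induction h0 using Submodule.span_induction with
  | mem y hy =>
    obtain ⟨e, he, rfl⟩ := hy
    exact ⟨1, by simp [fun j => he j (Finset.notMem_empty j)]⟩
  | zero => exact ⟨0, map_zero _⟩
  | add y z _ _ hy hz =>
    obtain ⟨r, rfl⟩ := hy
    obtain ⟨s, rfl⟩ := hz
    exact ⟨r + s, map_add _ _ _⟩
  | smul c y _ hy =>
    obtain ⟨r, rfl⟩ := hy
    exact ⟨c * r, by rw [map_mul]; exact (Algebra.smul_def c _).symm⟩

section PowerSeriesBase

variable {k : Type u} [Field k] {n : ℕ} (a : Fin n → MvPowerSeries (Fin n) k)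
  (ham : ∀ i, MvPowerSeries.constantCoeff (a i) = 0)

include ham

omit hp [CharP R p] [Nontrivial R] [Fintype σ] in
theorem isRegularLocalRing_PS [Fact p.Prime] : IsRegularLocalRing (ASRing p a MvPowerSeries.X) :=
  isRegularLocalRing_AS a _ (fun i => (mem_maximalIdeal_iff_constantCoeff k _).2 (ham i)) (maximalIdeal_eq k n).symm
    (by rw [ringKrullDim_eq k n, Fintype.card_fin])

omit hp [CharP R p] [Nontrivial R] [Fintype σ] in
theorem isDomain_PS [Fact p.Prime] : IsDomain (ASRing p a MvPowerSeries.X) :=
  haveI := isRegularLocalRing_PS (p := p) a ham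
  RegLocal.isDomain _

omit hp [CharP R p] [Nontrivial R] [Fintype σ] in
theorem isAdicComplete_PS [hp : Fact p.Prime] :
    IsAdicComplete (Ideal.span (Set.range (gen (asPoly p a MvPowerSeries.X)))) (ASRing p a MvPowerSeries.X) := by
  classical
  obtain ⟨b, -⟩ := exists_basis_AS (p := p) a MvPowerSeries.X
  haveI := isAdicComplete_of_basis (maximalIdeal (MvPowerSeries (Fin n) k)) b
  haveI : IsAdicComplete ((maximalIdeal (MvPowerSeries (Fin n) k)).map (algebraMap (MvPowerSeries (Fin n) k) (ASRing p a MvPowerSeries.X))) (ASRing p a MvPowerSeries.X) :=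
    (IsAdicComplete.map_algebraMap_iff (R := MvPowerSeries (Fin n) k) (S := ASRing p a MvPowerSeries.X) _ _).2 inferInstance
  have ha : ∀ i, a i ∈ maximalIdeal (MvPowerSeries (Fin n) k) := fun i => (mem_maximalIdeal_iff_constantCoeff k _).2 (ham i)
  have hd := (maximalIdeal_eq k n).symm
  refine isAdicComplete_of_pow_le (map_maximalIdeal_le a _ ha hd) (N := n * p + 1) (Nat.succ_pos _) ?_
  -- powers of the generators
  rw [Ideal.span, Submodule.span_pow, Submodule.span_le]
  intro z hz
  rw [Set.mem_pow] at hz
  obtain ⟨f, rfl⟩ := hz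
  rw [List.prod_ofFn]
  choose idx hidx using fun j => (f j).2
  obtain ⟨i, hi⟩ : ∃ i : Fin n, p ≤ (Finset.univ.filter fun j => idx j = i).card := by
    by_contra hcon
    push Not at hcon
    have h := Finset.card_le_mul_card_image_of_maps_to (f := idx) (s := Finset.univ) (t := Finset.univ)
      (fun _ _ => Finset.mem_univ _) p fun i _ => (hcon i).le
    simp [Finset.card_univ] at h
    nlinarith
  rw [← Finset.prod_filter_mul_prod_filter_not Finset.univ (fun j => idx j = i)]
  refine Ideal.mul_mem_right _ _ ?_
  rw [Finset.prod_congr rfl (g := fun _ => gen (asPoly p a MvPowerSeries.X) i) (fun j hj => by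
    rw [← hidx j, (Finset.mem_filter.1 hj).2]), Finset.prod_const, ← Nat.sub_add_cancel hi, pow_add]
  exact Ideal.mul_mem_left _ _ (gen_pow_mem a _ ha hd i)

end PowerSeriesBase

end Groth.Agent.WildQuotLib
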