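import Mathlib
import Groth.Agent.WildQuotLib.SOP

/-!
# Ideals generated by norms: radicals and lengths
-/

open IsLocalRing

namespace Groth.Agent.WildQuotLib

universe u v

variable {A : Type u} [CommRing A]

section length

variable (J : Ideal A) (a b : A)

theorem length_quot_mul_le : Module.length A (A ⧸ (J ⊔ Ideal.span {a * b})) ≤
    Module.length A (A ⧸ (J ⊔ Ideal.span {a})) + Module.length A (A ⧸ (J ⊔ Ideal.span {b})) := by
  let f : (A ⧸ (J ⊔ Ideal.span {b})) →ₗ[A] (A ⧸ (J ⊔ Ideal.span {a * b})) :=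
    Submodule.mapQ _ _ (LinearMap.mulLeft A a) fun z hz => by
      obtain ⟨j, hj, r, hr, rfl⟩ := Submodule.mem_sup.1 hz
      obtain ⟨c, rfl⟩ := Ideal.mem_span_singleton'.1 hr
      exact Submodule.mem_sup.2 ⟨a * j, J.mul_mem_left a hj, a * (c * b),
        Ideal.mem_span_singleton'.2 ⟨c, by ring⟩, by simp [mul_add]⟩
  let g : (A ⧸ (J ⊔ Ideal.span {a * b})) →ₗ[A] (A ⧸ (J ⊔ Ideal.span {a})) :=
    Submodule.factor (sup_le_sup_left ((Ideal.span_singleton_le_span_singleton).2 (dvd_mul_right a b)) J)
  have hexact : Function.Exact (LinearMap.range f).subtype g := by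
    intro z
    constructor
    · intro hz
      obtain ⟨z, rfl⟩ := Submodule.Quotient.mk_surjective _ z
      have hz' : z ∈ J ⊔ Ideal.span {a} := (Submodule.Quotient.mk_eq_zero _).1 hz
      obtain ⟨j, hj, r, hr, rfl⟩ := Submodule.mem_sup.1 hz'
      obtain ⟨c, rfl⟩ := Ideal.mem_span_singleton'.1 hr
      refine ⟨⟨_, Submodule.Quotient.mk c, rfl⟩, (Submodule.Quotient.eq _).2 ?_⟩
      show a * c - (j + c * a) ∈ _
      exact Ideal.mem_sup_left (by rw [show a * c - (j + c * a) = -j by ring]; exact J.neg_mem hj)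
    · rintro ⟨⟨_, w, rfl⟩, rfl⟩
      obtain ⟨w, rfl⟩ := Submodule.Quotient.mk_surjective _ w
      exact (Submodule.Quotient.mk_eq_zero _).2
        (Ideal.mem_sup_right (Ideal.mem_span_singleton'.2 ⟨w, by simp [mul_comm]⟩))
  rw [Module.length_eq_add_of_exact _ g Subtype.val_injective
    (Submodule.factor_surjective _) hexact, add_comm]
  exact add_le_add le_rfl (Module.length_le_of_surjective f.rangeRestrict f.surjective_rangeRestrict)

theorem length_quot_mul_eq (h : IsSMulRegular (A ⧸ J) a) : Module.length A (A ⧸ (J ⊔ Ideal.span {a * b})) =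
    Module.length A (A ⧸ (J ⊔ Ideal.span {a})) + Module.length A (A ⧸ (J ⊔ Ideal.span {b})) := by
  let f : (A ⧸ (J ⊔ Ideal.span {b})) →ₗ[A] (A ⧸ (J ⊔ Ideal.span {a * b})) :=
    Submodule.mapQ _ _ (LinearMap.mulLeft A a) fun z hz => by
      obtain ⟨j, hj, r, hr, rfl⟩ := Submodule.mem_sup.1 hz
      obtain ⟨c, rfl⟩ := Ideal.mem_span_singleton'.1 hr
      exact Submodule.mem_sup.2 ⟨a * j, J.mul_mem_left a hj, a * (c * b),
        Ideal.mem_span_singleton'.2 ⟨c, by ring⟩, by simp [mul_add]⟩
  let g : (A ⧸ (J ⊔ Ideal.span {a * b})) →ₗ[A] (A ⧸ (J ⊔ Ideal.span {a})) :=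
    Submodule.factor (sup_le_sup_left ((Ideal.span_singleton_le_span_singleton).2 (dvd_mul_right a b)) J)
  have hinj : Function.Injective f := (injective_iff_map_eq_zero f).2 fun z hz => by
    obtain ⟨z, rfl⟩ := Submodule.Quotient.mk_surjective _ z
    have hz' : a * z ∈ J ⊔ Ideal.span {a * b} := (Submodule.Quotient.mk_eq_zero _).1 hz
    obtain ⟨j, hj, r, hr, e⟩ := Submodule.mem_sup.1 hz'
    obtain ⟨c, rfl⟩ := Ideal.mem_span_singleton'.1 hr
    have h1 : a * (z - c * b) ∈ J := by
      rw [show a * (z - c * b) = j by linear_combination -e]; exact hj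
    have h2 : Ideal.Quotient.mk J (z - c * b) = 0 :=
      isSMulRegular_iff_right_eq_zero_of_smul.1 h _ (Ideal.Quotient.eq_zero_iff_mem.2 h1)
    exact (Submodule.Quotient.mk_eq_zero _).2 (by
      rw [show z = (z - c * b) + c * b by ring]
      exact add_mem (Ideal.mem_sup_left (Ideal.Quotient.eq_zero_iff_mem.1 h2))
        (Ideal.mem_sup_right (Ideal.mem_span_singleton'.2 ⟨c, rfl⟩)))
  have hexact : Function.Exact f g := by
    intro z
    constructor
    · intro hz
      obtain ⟨z, rfl⟩ := Submodule.Quotient.mk_surjective _ z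
      have hz' : z ∈ J ⊔ Ideal.span {a} := (Submodule.Quotient.mk_eq_zero _).1 hz
      obtain ⟨j, hj, r, hr, rfl⟩ := Submodule.mem_sup.1 hz'
      obtain ⟨c, rfl⟩ := Ideal.mem_span_singleton'.1 hr
      refine ⟨Submodule.Quotient.mk c, (Submodule.Quotient.eq _).2 ?_⟩
      show a * c - (j + c * a) ∈ _
      exact Ideal.mem_sup_left (by rw [show a * c - (j + c * a) = -j by ring]; exact J.neg_mem hj)
    · rintro ⟨w, rfl⟩
      obtain ⟨w, rfl⟩ := Submodule.Quotient.mk_surjective _ w
      exact (Submodule.Quotient.mk_eq_zero _).2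
        (Ideal.mem_sup_right (Ideal.mem_span_singleton'.2 ⟨w, by simp [mul_comm]⟩))
  rw [Module.length_eq_add_of_exact f g hinj (Submodule.factor_surjective _) hexact, add_comm]

end length

variable {G : Type v} [Group G] [Fintype G] [MulSemiringAction G A] {n : ℕ} (u : Fin n → A)

/-- The `i`-th generator after expanding the indices in `s` into norms. -/
noncomputable def mixed [DecidableEq (Fin n)] (s : Finset (Fin n)) (τ : Fin n → G) (i : Fin n) : A :=
  if i ∈ s then ∏ σ : G, σ • u i else τ i • u i

/-- Weak admissibility passes to all intermediate systems. -/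
theorem le_radical_mixed {m : Ideal A} (h : ∀ τ : Fin n → G, m ≤ (Ideal.span (Set.range fun i => τ i • u i)).radical)
    (s : Finset (Fin n)) (τ : Fin n → G) : m ≤ (Ideal.span (Set.range (mixed u s τ))).radical := by
  classical
  rw [Ideal.radical_eq_sInf]
  refine le_sInf fun P ⟨hP, hPp⟩ => ?_
  haveI := hPp
  have hex : ∀ i, ∃ σ : G, σ • u i ∈ P := fun i => by
    have hmem : mixed u s τ i ∈ P := hP (Ideal.subset_span ⟨i, rfl⟩)
    simp only [mixed] at hmem
    split_ifs at hmem with hi
    · obtain ⟨σ, -, hσ⟩ := (hPp.prod_mem_iff).1 hmem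
      exact ⟨σ, hσ⟩
    · exact ⟨τ i, hmem⟩
  choose τ' hτ' using hex
  exact (h τ').trans (hPp.radical_le_iff.2 (Ideal.span_le.2 (by rintro _ ⟨i, rfl⟩; exact hτ' i)))

theorem span_mixed_eq [DecidableEq (Fin n)] (s : Finset (Fin n)) (τ : Fin n → G) (i : Fin n) :
    Ideal.span (Set.range (mixed u s τ)) =
      Ideal.span (mixed u s τ '' ↑(Finset.univ.erase i)) ⊔ Ideal.span {mixed u s τ i} := by
  rw [← Ideal.span_union, Finset.coe_erase, Finset.coe_univ]
  congr 1
  ext x
  constructor
  · rintro ⟨j, rfl⟩
    by_cases hj : j = i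
    · exact Or.inr (by simp [hj])
    · exact Or.inl ⟨j, by simp [hj], rfl⟩
  · rintro (⟨j, -, rfl⟩ | rfl) <;> exact ⟨_, rfl⟩

theorem span_mixed_update [DecidableEq (Fin n)] {s : Finset (Fin n)} {i : Fin n} (hi : i ∉ s) (τ : Fin n → G) (σ : G) :
    Ideal.span (Set.range (mixed u s (Function.update τ i σ))) =
      Ideal.span (mixed u s τ '' ↑(Finset.univ.erase i)) ⊔ Ideal.span {σ • u i} := by
  rw [span_mixed_eq u s _ i]
  congr 1
  · refine congrArg _ (Set.image_congr fun j hj => ?_)
    have : j ≠ i := by simpa using hj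
    simp [mixed, Function.update_of_ne this]
  · simp [mixed, hi]

theorem span_mixed_insert [DecidableEq (Fin n)] {s : Finset (Fin n)} {i : Fin n} (τ : Fin n → G) :
    Ideal.span (Set.range (mixed u (insert i s) τ)) =
      Ideal.span (mixed u s τ '' ↑(Finset.univ.erase i)) ⊔ Ideal.span {∏ σ : G, σ • u i} := by
  rw [span_mixed_eq u _ _ i]
  congr 1
  · refine congrArg _ (Set.image_congr fun j hj => ?_)
    have : j ≠ i := by simpa using hj
    simp [mixed, this]
  · simp [mixed]

theorem length_mixed_le (h : ∀ τ : Fin n → G, Module.length A (A ⧸ Ideal.span (Set.range fun i => τ i • u i)) ≤ 1) :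
    ∀ (s : Finset (Fin n)) (τ : Fin n → G),
      Module.length A (A ⧸ Ideal.span (Set.range (mixed u s τ))) ≤ (Fintype.card G ^ s.card : ℕ) := by
  classical
  intro s
  induction s using Finset.induction_on with
  | empty =>
    intro τ
    rw [show mixed u ∅ τ = fun i => τ i • u i from funext fun i => if_neg (Finset.notMem_empty i), Finset.card_empty,
      pow_zero, Nat.cast_one]
    exact h τ
  | @insert i s hi ih =>
    intro τ
    have key : ∀ T : Finset G, Module.length A (A ⧸ (Ideal.span (mixed u s τ '' ↑(Finset.univ.erase i)) ⊔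
        Ideal.span {∏ σ ∈ T, σ • u i})) ≤ (T.card * Fintype.card G ^ s.card : ℕ) := by
      intro T
      induction T using Finset.induction_on with
      | empty =>
        haveI : Subsingleton (A ⧸ (Ideal.span (mixed u s τ '' ↑(Finset.univ.erase i)) ⊔
            Ideal.span {∏ σ ∈ (∅ : Finset G), σ • u i})) :=
          Ideal.Quotient.subsingleton_iff.2 (by simp)
        simp [Module.length_eq_zero]
      | @insert σ T hσ ihT =>
        rw [Finset.prod_insert hσ, Finset.card_insert_of_notMem hσ, add_mul, one_mul, Nat.cast_add, add_comm]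
        refine (length_quot_mul_le _ _ _).trans (add_le_add ?_ ihT)
        rw [← span_mixed_update u hi]
        exact ih _
    rw [span_mixed_insert, Finset.card_insert_of_notMem hi, pow_succ']
    simpa using key Finset.univ

theorem le_length_mixed [IsRegularLocalRing A] (hn : ringKrullDim A = n) (hm : ∀ (σ : G) i, σ • u i ∈ maximalIdeal A)
    (h : ∀ τ : Fin n → G, maximalIdeal A ≤ (Ideal.span (Set.range fun i => τ i • u i)).radical) :
    ∀ (s : Finset (Fin n)) (τ : Fin n → G),
      ((Fintype.card G ^ s.card : ℕ) : ℕ∞) ≤ Module.length A (A ⧸ Ideal.span (Set.range (mixed u s τ))) := by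
  classical
  have hmix : ∀ s τ i, mixed u s τ i ∈ maximalIdeal A := fun s τ i => by
    simp only [mixed]
    split_ifs
    · exact Ideal.prod_mem _ (Finset.mem_univ (1 : G)) (hm _ _)
    · exact hm _ _
  intro s
  induction s using Finset.induction_on with
  | empty =>
    intro τ
    haveI : Nontrivial (A ⧸ Ideal.span (Set.range (mixed u (∅ : Finset (Fin n)) τ))) :=
      Ideal.Quotient.nontrivial_iff.2 fun htop => (maximalIdeal.isMaximal A).ne_top
        (top_le_iff.1 (htop ▸ Ideal.span_le.2 (by rintro _ ⟨j, rfl⟩; exact hmix _ _ _)))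
    rw [Finset.card_empty, pow_zero, Nat.cast_one]
    exact Order.one_le_iff_pos.2 Module.length_pos
  | @insert i s hi ih =>
    intro τ
    set J := Ideal.span (mixed u s τ '' ↑(Finset.univ.erase i)) with hJ
    have hJm : J ≤ maximalIdeal A := Ideal.span_le.2 (by rintro _ ⟨j, -, rfl⟩; exact hmix _ _ _)
    have hreg : ∀ σ : G, IsSMulRegular (A ⧸ J) (σ • u i) := fun σ => by
      refine isSMulRegular_of_sop hn J ((Finset.univ.erase i).toList.map (mixed u s τ)) _ ?_ ?_ ?_ ?_
      · rw [hJ, Ideal.ofList]
        congr 1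
        ext x
        simp
      · rw [List.length_map, Finset.length_toList, Finset.card_erase_of_mem (Finset.mem_univ i), Finset.card_univ,
          Fintype.card_fin]
        have := i.2
        omega
      · exact fun htop => (maximalIdeal.isMaximal A).ne_top
          (top_le_iff.1 (htop ▸ sup_le hJm ((Ideal.span_singleton_le_iff_mem _).2 (hm _ _))))
      · rw [← span_mixed_update u hi]
        exact le_radical_mixed u h s _
    have key : ∀ T : Finset G, ((T.card * Fintype.card G ^ s.card : ℕ) : ℕ∞) ≤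
        Module.length A (A ⧸ (J ⊔ Ideal.span {∏ σ ∈ T, σ • u i})) := by
      intro T
      induction T using Finset.induction_on with
      | empty => simp
      | @insert σ T hσ ihT =>
        rw [Finset.prod_insert hσ, Finset.card_insert_of_notMem hσ, add_mul, one_mul, Nat.cast_add, add_comm,
          length_quot_mul_eq J _ _ (hreg σ)]
        refine add_le_add ?_ ihT
        rw [hJ, ← span_mixed_update u hi]
        exact ih _
    rw [span_mixed_insert, Finset.card_insert_of_notMem hi, pow_succ']
    simpa using key Finset.univ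

end Groth.Agent.WildQuotLib
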