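import Mathlib

/-!
# Triangular systems of parameters are admissible
-/

open IsLocalRing

namespace Groth.Agent.WildQuotLib

universe u v

variable {A : Type u} [CommRing A] [IsLocalRing A] [IsNoetherianRing A]
  {G : Type v} [Group G] [MulSemiringAction G A]

theorem smul_mem_maximalIdeal (σ : G) {x : A} (hx : x ∈ maximalIdeal A) : σ • x ∈ maximalIdeal A := fun hunit => by
  have h1 := hunit.map (MulSemiringAction.toRingHom G A σ⁻¹)
  rw [MulSemiringAction.toRingHom_apply, inv_smul_smul] at h1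
  exact hx h1

theorem smul_mem_maximalIdeal_sq (σ : G) {x : A} (hx : x ∈ maximalIdeal A ^ 2) : σ • x ∈ maximalIdeal A ^ 2 := by
  have h := Ideal.mem_map_of_mem (MulSemiringAction.toRingHom G A σ) hx
  rw [Ideal.map_pow] at h
  refine Ideal.pow_right_mono ?_ 2 h
  rw [Ideal.map_le_iff_le_comap]
  exact fun y hy => smul_mem_maximalIdeal σ hy

theorem admissible_of_triangular {n : ℕ} (u : Fin n → A) (hu : Ideal.span (Set.range u) = maximalIdeal A)
    (htri : ∀ (σ : G) (i : Fin n), σ • u i ∈ Ideal.span (u '' {j | j ≤ i}) ⊔ maximalIdeal A ^ 2) (τ : Fin n → G) :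
    Ideal.span (Set.range fun i => τ i • u i) = maximalIdeal A := by
  set m := maximalIdeal A
  set N := Ideal.span (Set.range fun i => τ i • u i)
  have hum : ∀ i, u i ∈ m := fun i => hu ▸ Ideal.subset_span ⟨i, rfl⟩
  have hNm : N ≤ m := Ideal.span_le.2 (by rintro _ ⟨i, rfl⟩; exact smul_mem_maximalIdeal _ (hum i))
  have hmem : ∀ k : ℕ, ∀ i : Fin n, (i : ℕ) < k → u i ∈ N ⊔ m ^ 2 := by
    intro k
    induction k with
    | zero => exact fun i hi => absurd hi (Nat.not_lt_zero _)
    | succ k ih =>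
      intro i hi
      have hσ := htri (τ i)⁻¹ i
      obtain ⟨a, ha, b, hb, hab⟩ := Submodule.mem_sup.1 hσ
      have h1 := congrArg (fun z => τ i • z) hab
      simp only [smul_add, smul_inv_smul] at h1
      rw [← h1]
      refine add_mem ?_ (Ideal.mem_sup_right (smul_mem_maximalIdeal_sq _ hb))
      -- images of the generators of the flag
      have h2 : τ i • a ∈ Ideal.map (MulSemiringAction.toRingHom G A (τ i)) (Ideal.span (u '' {j | j ≤ i})) :=
        Ideal.mem_map_of_mem _ ha
      rw [Ideal.map_span] at h2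
      refine (Ideal.span_le.2 ?_ : _ ≤ N ⊔ m ^ 2) h2
      rintro _ ⟨_, ⟨j, hj, rfl⟩, rfl⟩
      rcases lt_or_eq_of_le (show j ≤ i from hj) with hlt | rfl
      · obtain ⟨c, hc, d, hd, hcd⟩ := Submodule.mem_sup.1 (htri (τ i) j)
        show τ i • u j ∈ N ⊔ m ^ 2
        rw [← hcd]
        refine add_mem ((Ideal.span_le.2 ?_ : _ ≤ N ⊔ m ^ 2) hc) (Ideal.mem_sup_right hd)
        rintro _ ⟨l, hl, rfl⟩
        exact ih l (lt_of_le_of_lt (show (l : ℕ) ≤ j from hl) (lt_of_lt_of_le (show (j : ℕ) < i from hlt) (Nat.lt_succ_iff.1 hi)))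
      · exact Ideal.mem_sup_left (Ideal.subset_span ⟨j, rfl⟩)
  refine le_antisymm hNm (Submodule.le_of_le_smul_of_le_jacobson_bot m.fg_of_isNoetherianRing
    (maximalIdeal_le_jacobson ⊥) ?_)
  conv_lhs => rw [← hu]
  rw [Ideal.span_le]
  rintro _ ⟨i, rfl⟩
  show u i ∈ N ⊔ m • m
  rw [smul_eq_mul, ← sq]
  exact hmem n i i.2

/-- A nonzero class modulo a stable ideal has a nonzero fixed class in the additive group it generates. -/
theorem exists_fixed_mod {p : ℕ} [Fact p.Prime] [CharP A p] [Finite G] (hG : IsPGroup p G) (J : Ideal A)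
    (hJ : ∀ (σ : G), ∀ x ∈ J, σ • x ∈ J) (M : Ideal A) (hM : ∀ (σ : G), ∀ x ∈ M, σ • x ∈ M)
    (hlt : ¬ M ≤ J) : ∃ v ∈ M, v ∉ J ∧ ∀ σ : G, σ • v - v ∈ J := by
  classical
  obtain ⟨v₀, hv₀, hv₀J⟩ := SetLike.not_le_iff_exists.1 hlt
  letI : SMul G (A ⧸ J) :=
    ⟨fun σ => Ideal.quotientMap J (MulSemiringAction.toRingHom G A σ) fun x hx => hJ σ x hx⟩
  have hsmk : ∀ (σ : G) x, σ • Ideal.Quotient.mk J x = Ideal.Quotient.mk J (σ • x) := fun σ x => rfl
  letI : DistribMulAction G (A ⧸ J) :=
    { one_smul := fun x => by obtain ⟨x, rfl⟩ := Ideal.Quotient.mk_surjective x; rw [hsmk, one_smul]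
      mul_smul := fun a b x => by
        obtain ⟨x, rfl⟩ := Ideal.Quotient.mk_surjective x; rw [hsmk, hsmk, hsmk, mul_smul]
      smul_zero := fun a => map_zero (Ideal.quotientMap J (MulSemiringAction.toRingHom G A a) fun x hx => hJ a x hx)
      smul_add := fun a => map_add (Ideal.quotientMap J (MulSemiringAction.toRingHom G A a) fun x hx => hJ a x hx) }
  set S : AddSubgroup (A ⧸ J) := AddSubgroup.closure (Set.range fun σ : G => Ideal.Quotient.mk J (σ • v₀))
  have hstab : ∀ (σ : G), ∀ x ∈ S, σ • x ∈ S := fun σ x hx => by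
    induction hx using AddSubgroup.closure_induction with
    | mem y hy =>
      obtain ⟨τ, rfl⟩ := hy
      exact AddSubgroup.subset_closure ⟨σ * τ, by simp [hsmk, mul_smul]⟩
    | zero => rw [smul_zero]; exact S.zero_mem
    | add y z _ _ hy hz => rw [smul_add]; exact S.add_mem hy hz
    | neg y _ hy => rw [smul_neg]; exact S.neg_mem hy
  haveI : AddGroup.FG S := AddGroup.closure_finite_fg _
  have hptors : ∀ x : A ⧸ J, p • x = 0 := fun x => by
    obtain ⟨x, rfl⟩ := Ideal.Quotient.mk_surjective x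
    rw [← map_nsmul, nsmul_eq_mul, CharP.cast_eq_zero, zero_mul, map_zero]
  haveI : Finite S := AddCommGroup.finite_of_fg_torsion S fun x =>
    isOfFinAddOrder_iff_nsmul_eq_zero.2 ⟨p, (Fact.out : p.Prime).pos, Subtype.ext (by simp [hptors])⟩
  letI : MulAction G S :=
    { smul := fun σ x => ⟨σ • x.1, hstab σ x.1 x.2⟩
      one_smul := fun x => Subtype.ext (one_smul G x.1)
      mul_smul := fun a b x => Subtype.ext (mul_smul a b x.1) }
  have hdvd : p ∣ Nat.card S := by
    have hne : (⟨Ideal.Quotient.mk J v₀, AddSubgroup.subset_closure ⟨1, by simp⟩⟩ : S) ≠ 0 := fun h =>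
      hv₀J (Ideal.Quotient.eq_zero_iff_mem.1 (congrArg Subtype.val h))
    have h1 := addOrderOf_eq_prime (p := p) (Subtype.ext (by simp [hptors])) hne
    exact h1 ▸ addOrderOf_dvd_natCard _
  obtain ⟨b, hb, hb0⟩ := hG.exists_fixed_point_of_prime_dvd_card_of_fixed_point S hdvd (a := 0)
    (fun σ => Subtype.ext (smul_zero σ))
  obtain ⟨v, hv, hvb⟩ : ∃ v ∈ M, Ideal.Quotient.mk J v = b.1 := by
    have : ∀ x ∈ S, ∃ v ∈ M, Ideal.Quotient.mk J v = x := fun x hx => by
      induction hx using AddSubgroup.closure_induction with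
      | mem y hy => obtain ⟨τ, rfl⟩ := hy; exact ⟨_, hM τ _ hv₀, rfl⟩
      | zero => exact ⟨0, M.zero_mem, map_zero _⟩
      | add y z _ _ hy hz =>
        obtain ⟨a, ha, rfl⟩ := hy
        obtain ⟨c, hc, rfl⟩ := hz
        exact ⟨a + c, M.add_mem ha hc, map_add _ _ _⟩
      | neg y _ hy =>
        obtain ⟨a, ha, rfl⟩ := hy
        exact ⟨-a, M.neg_mem ha, map_neg _ _⟩
    exact this _ b.2
  refine ⟨v, hv, fun hvJ => hb0 (Subtype.ext ?_), fun σ => ?_⟩
  · rw [← hvb, Ideal.Quotient.eq_zero_iff_mem.2 hvJ]; rfl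
  · rw [← Ideal.Quotient.eq, ← hsmk, hvb]
    exact congrArg Subtype.val (hb σ)

/-- A triangular regular system of parameters for a `p`-group. -/
theorem exists_triangular {p : ℕ} [Fact p.Prime] [CharP A p] [Finite G] (hG : IsPGroup p G) {n : ℕ}
    (hn : (maximalIdeal A).spanFinrank ≤ n) :
    ∃ u : Fin n → A, Ideal.span (Set.range u) = maximalIdeal A ∧
      ∀ (σ : G) (i : Fin n), σ • u i ∈ Ideal.span (u '' {j | j ≤ i}) ⊔ maximalIdeal A ^ 2 := by
  classical
  set m := maximalIdeal A
  have hmono : ∀ {s t : Set A}, s ⊆ t → Ideal.span s ⊔ m ^ 2 ≤ Ideal.span t ⊔ m ^ 2 :=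
    fun hst => sup_le ((Ideal.span_mono hst).trans le_sup_left) le_sup_right
  -- the flag
  have key : ∀ k : ℕ, ∃ u : Fin k → A, (∀ i, u i ∈ m) ∧
      (∀ (σ : G) (i : Fin k), σ • u i ∈ Ideal.span (u '' {j | j ≤ i}) ⊔ m ^ 2) ∧
      (Ideal.span (Set.range u) ⊔ m ^ 2 = m ∨ LinearIndependent (ResidueField A)
        fun i : Fin k => m.toCotangent ⟨if h : u i ∈ m then u i else 0, by split_ifs with h; exacts [h, m.zero_mem]⟩) := by
    intro k
    induction k with
    | zero => exact ⟨Fin.elim0, fun i => i.elim0, fun _ i => i.elim0, Or.inr linearIndependent_empty_type⟩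
    | succ k ih =>
      obtain ⟨u, hum, htri, hdis⟩ := ih
      set J := Ideal.span (Set.range u) ⊔ m ^ 2 with hJdef
      have hJstab : ∀ σ : G, ∀ x ∈ J, σ • x ∈ J := fun σ x hx => by
        obtain ⟨a, ha, b, hb, rfl⟩ := Submodule.mem_sup.1 hx
        rw [smul_add]
        refine add_mem ?_ (Ideal.mem_sup_right (smul_mem_maximalIdeal_sq σ hb))
        have h2 := Ideal.mem_map_of_mem (MulSemiringAction.toRingHom G A σ) ha
        rw [Ideal.map_span] at h2
        refine (Ideal.span_le.2 ?_ : _ ≤ J) h2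
        rintro _ ⟨_, ⟨i, rfl⟩, rfl⟩
        exact hmono (Set.image_subset_range _ _) (htri σ i)
      obtain ⟨v, hvm, hvJ, hfix⟩ : ∃ v ∈ m, (J = m ∨ v ∉ J) ∧ ∀ σ : G, σ • v - v ∈ J := by
        by_cases hle : m ≤ J
        · exact ⟨0, m.zero_mem, Or.inl (le_antisymm
            (sup_le (Ideal.span_le.2 (by rintro _ ⟨i, rfl⟩; exact hum i)) (Ideal.pow_le_self two_ne_zero)) hle),
            fun σ => by simp⟩
        · obtain ⟨v, hv, hv', hf⟩ := exists_fixed_mod hG J hJstab m (fun σ x => smul_mem_maximalIdeal σ) hle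
          exact ⟨v, hv, Or.inr hv', hf⟩
      refine ⟨Fin.snoc u v, fun i => by cases i using Fin.lastCases <;> simp [hvm, hum], fun σ i => ?_, ?_⟩
      · cases i using Fin.lastCases with
        | last =>
          rw [Fin.snoc_last, show σ • v = (σ • v - v) + v by ring]
          refine add_mem ((hmono ?_ : J ≤ _) (hfix σ))
            (Ideal.mem_sup_left (Ideal.subset_span ⟨Fin.last k, by simp, by simp⟩))
          rintro _ ⟨j, rfl⟩
          exact ⟨j.castSucc, by simp [Fin.le_last], by simp⟩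
        | cast i =>
          rw [Fin.snoc_castSucc]
          refine hmono ?_ (htri σ i)
          rintro _ ⟨j, hj, rfl⟩
          exact ⟨j.castSucc, by simpa using hj, by simp⟩
      · have hrange : Ideal.span (Set.range u) ≤ Ideal.span (Set.range (Fin.snoc u v : Fin (k + 1) → A)) :=
          Ideal.span_mono (by rintro _ ⟨j, rfl⟩; exact ⟨j.castSucc, by simp⟩)
        have hsup : ∀ (hJ : J = m), Ideal.span (Set.range (Fin.snoc u v : Fin (k + 1) → A)) ⊔ m ^ 2 = m := fun hJ => by
          refine le_antisymm (sup_le (Ideal.span_le.2 ?_) (Ideal.pow_le_self two_ne_zero)) ?_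
          · rintro _ ⟨j, rfl⟩
            cases j using Fin.lastCases <;> simp [hvm, hum]
          · conv_lhs => rw [← hJ]
            exact sup_le_sup_right hrange _
        rcases hvJ with hJ | hvJ
        · exact Or.inl (hsup hJ)
        rcases hdis with hJ | hli
        · exact absurd (hJ.symm ▸ hvm) hvJ
        refine Or.inr ?_
        have e : (fun i : Fin (k + 1) => m.toCotangent
            ⟨if h : (Fin.snoc u v : Fin (k + 1) → A) i ∈ m then (Fin.snoc u v : Fin (k + 1) → A) i else 0,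
              by split_ifs with h; exacts [h, m.zero_mem]⟩) =
            Fin.snoc (fun i : Fin k => m.toCotangent ⟨u i, hum i⟩) (m.toCotangent ⟨v, hvm⟩) := by
          funext i
          cases i using Fin.lastCases <;> simp [hvm, hum]
        have e' : (fun i : Fin k => m.toCotangent ⟨if h : u i ∈ m then u i else 0,
            by split_ifs with h; exacts [h, m.zero_mem]⟩) = fun i : Fin k => m.toCotangent ⟨u i, hum i⟩ := by
          funext i; simp [hum]
        rw [e]
        rw [e'] at hli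
        refine linearIndependent_finSnoc.2 ⟨hli, fun hspan => hvJ ?_⟩
        obtain ⟨c, hc⟩ := (Submodule.mem_span_range_iff_exists_fun _).1 hspan
        choose c' hc' using fun i => IsLocalRing.residue_surjective (c i)
        have h3 : m.toCotangent (∑ i, c' i • (⟨u i, hum i⟩ : m)) = m.toCotangent ⟨v, hvm⟩ := by
          rw [← hc, map_sum]
          refine Finset.sum_congr rfl fun i _ => ?_
          rw [map_smul, ← hc']
          rfl
        rw [Ideal.toCotangent_eq] at h3
        rw [show v = ((∑ i, c' i • (⟨u i, hum i⟩ : m) : m) : A) - (((∑ i, c' i • (⟨u i, hum i⟩ : m) : m) : A) - v) by ring]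
        refine sub_mem (Ideal.mem_sup_left ?_) (Ideal.mem_sup_right h3)
        rw [Submodule.coe_sum]
        exact Ideal.sum_mem _ fun i _ => Ideal.mul_mem_left _ _ (Ideal.subset_span ⟨i, rfl⟩)
  obtain ⟨u, hum, htri, hdis⟩ := key n
  refine ⟨u, ?_, htri⟩
  have hle : Ideal.span (Set.range u) ≤ m := Ideal.span_le.2 (by rintro _ ⟨i, rfl⟩; exact hum i)
  have hfin : Ideal.span (Set.range u) ⊔ m ^ 2 = m := by
    rcases hdis with h | hli
    · exact h
    refine le_antisymm (sup_le hle (Ideal.pow_le_self two_ne_zero)) fun x hx => ?_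
    have hcard : Module.finrank (ResidueField A) (CotangentSpace A) ≤ Fintype.card (Fin n) := by
      rw [Fintype.card_fin, ← IsLocalRing.spanFinrank_maximalIdeal_eq_finrank_cotangentSpace]
      exact hn
    have htop := hli.span_eq_top_of_card_eq_finrank' (le_antisymm (hli.fintype_card_le_finrank) hcard)
    have hmemtop : m.toCotangent ⟨x, hx⟩ ∈ (⊤ : Submodule (ResidueField A) (CotangentSpace A)) := trivial
    rw [← htop] at hmemtop
    obtain ⟨c, hc⟩ := (Submodule.mem_span_range_iff_exists_fun _).1 hmemtop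
    choose c' hc' using fun i => IsLocalRing.residue_surjective (c i)
    have h3 : m.toCotangent (∑ i, c' i • (⟨u i, hum i⟩ : m)) = m.toCotangent ⟨x, hx⟩ := by
      rw [← hc, map_sum]
      refine Finset.sum_congr rfl fun i _ => ?_
      rw [map_smul, ← hc']
      simp [hum]
      rfl
    rw [Ideal.toCotangent_eq] at h3
    rw [show x = ((∑ i, c' i • (⟨u i, hum i⟩ : m) : m) : A) - (((∑ i, c' i • (⟨u i, hum i⟩ : m) : m) : A) - x) by ring]
    refine sub_mem (Ideal.mem_sup_left ?_) (Ideal.mem_sup_right h3)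
    rw [Submodule.coe_sum]
    exact Ideal.sum_mem _ fun i _ => Ideal.mul_mem_left _ _ (Ideal.subset_span ⟨i, rfl⟩)
  refine le_antisymm hle (Submodule.le_of_le_smul_of_le_jacobson_bot m.fg_of_isNoetherianRing
    (maximalIdeal_le_jacobson ⊥) ?_)
  rw [smul_eq_mul, ← sq, hfin]

end Groth.Agent.WildQuotLib
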