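import Mathlib
import Groth.Agent.RegLocal.Basic

/-!
# Actions ramified at the origin: basic facts
-/

open IsLocalRing Pointwise

namespace Groth.Agent.WildQuotLib

universe u v w

variable {A : Type u} [CommRing A] [IsLocalRing A] {G : Type w} [Group G] [MulSemiringAction G A]

theorem smul_mem_pow (σ : G) {N : ℕ} {a : A} (ha : a ∈ maximalIdeal A ^ N) : σ • a ∈ maximalIdeal A ^ N := by
  have h : (maximalIdeal A).map (MulSemiringAction.toRingHom G A σ) ≤ maximalIdeal A := by
    rw [Ideal.map_le_iff_le_comap]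
    intro x hx
    rw [Ideal.mem_comap, mem_maximalIdeal, mem_nonunits_iff]
    intro hu
    refine (mem_maximalIdeal x).1 hx ?_
    have h2 := hu.map (MulSemiringAction.toRingHom G A σ⁻¹)
    simpa [← mul_smul] using h2
  have h2 := Ideal.mem_map_of_mem (MulSemiringAction.toRingHom G A σ) ha
  rw [Ideal.map_pow] at h2
  exact Ideal.pow_right_mono h N h2

variable {k : Type v} [Field k] [Algebra k A] (hk : Function.Surjective (residue A ∘ algebraMap k A))
  (hGk : ∀ (σ : G) (c : k), σ • algebraMap k A c = algebraMap k A c)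

include hk hGk

theorem smul_sub_mem_maximalIdeal (σ : G) (a : A) : σ • a - a ∈ maximalIdeal A := by
  obtain ⟨c, hc⟩ := hk (residue A a)
  have h1 : a - algebraMap k A c ∈ maximalIdeal A := by
    rw [← residue_eq_zero_iff, map_sub, sub_eq_zero]; exact hc.symm
  have h2 : σ • (a - algebraMap k A c) ∈ maximalIdeal A := by
    have h := smul_mem_pow σ (N := 1) ((pow_one (maximalIdeal A)).symm ▸ h1)
    rwa [pow_one] at h
  rw [smul_sub, hGk] at h2
  simpa using sub_mem h2 h1

/-- The ideal of the fixed-point scheme is generated on generators of the maximal ideal. -/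
theorem smul_sub_mem_of_generators [IsNoetherianRing A] {ι : Type*} (y : ι → A)
    (hy : Ideal.span (Set.range y) = maximalIdeal A) (σ : G) (J : Ideal A)
    (hJ : ∀ l, σ • y l - y l ∈ J) (a : A) : σ • a - a ∈ J := by
  rcases eq_or_ne J ⊤ with rfl | hne
  · trivial
  let S : Subring A :=
    { carrier := {a | σ • a - a ∈ J}
      zero_mem' := by simp
      one_mem' := by simp
      add_mem' := fun {a b} ha hb => by
        show σ • (a + b) - (a + b) ∈ J
        rw [smul_add, add_sub_add_comm]; exact J.add_mem ha hb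
      neg_mem' := fun {a} ha => by
        show σ • (-a) - -a ∈ J
        rw [smul_neg, ← neg_sub', neg_mem_iff]; exact ha
      mul_mem' := fun {a b} ha hb => by
        show σ • (a * b) - a * b ∈ J
        rw [smul_mul', show σ • a * σ • b - a * b = (σ • a - a) * σ • b + a * (σ • b - b) by ring]
        exact J.add_mem (J.mul_mem_right _ ha) (J.mul_mem_left _ hb) }
  have hkS : ∀ c : k, algebraMap k A c ∈ S := fun c => by
    show σ • algebraMap k A c - algebraMap k A c ∈ J
    rw [hGk, sub_self]; exact J.zero_mem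
  have hdense : ∀ (N : ℕ) (a : A), ∃ s ∈ S, a - s ∈ maximalIdeal A ^ N := by
    intro N
    induction N with
    | zero => exact fun a => ⟨0, S.zero_mem, by simp⟩
    | succ N ih =>
      intro a
      obtain ⟨c, hc⟩ := hk (residue A a)
      have h1 : a - algebraMap k A c ∈ maximalIdeal A := by
        rw [← residue_eq_zero_iff, map_sub, sub_eq_zero]; exact hc.symm
      rw [← hy] at h1
      obtain ⟨c', hc'⟩ := (Finsupp.mem_ideal_span_range_iff_exists_finsupp (v := y)).1 h1
      choose s hs hs' using fun l => ih (c' l)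
      refine ⟨algebraMap k A c + c'.sum fun l _ => s l * y l, S.add_mem (hkS c)
        (S.sum_mem fun l _ => S.mul_mem (hs l) (hJ l)), ?_⟩
      rw [← sub_sub, ← hc', Finsupp.sum, Finsupp.sum, ← Finset.sum_sub_distrib, pow_succ]
      refine sum_mem fun l _ => ?_
      rw [← sub_mul]
      exact Ideal.mul_mem_mul (hs' l) (hy ▸ Ideal.subset_span (Set.mem_range_self l))
  have hall : ∀ N : ℕ, σ • a - a ∈ J ⊔ maximalIdeal A ^ N := by
    intro N
    obtain ⟨s, hs, hsa⟩ := hdense N a
    have h1 : σ • a - a = (σ • s - s) + (σ • (a - s) - (a - s)) := by rw [smul_sub]; ring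
    rw [h1]
    exact add_mem (Ideal.mem_sup_left hs) (Ideal.mem_sup_right (sub_mem (smul_mem_pow σ hsa) hsa))
  rw [← Ideal.Quotient.eq_zero_iff_mem, ← Submodule.mem_bot A,
    ← Ideal.iInf_pow_smul_eq_bot_of_isLocalRing (M := A ⧸ J) (maximalIdeal A) (maximalIdeal.isMaximal A).ne_top,
    Submodule.mem_iInf]
  intro N
  obtain ⟨z, hz, w, hw, he⟩ := Submodule.mem_sup.1 (hall N)
  rw [← he, map_add, Ideal.Quotient.eq_zero_iff_mem.2 hz, zero_add,
    show Ideal.Quotient.mk J w = w • (1 : A ⧸ J) from (congrArg (Ideal.Quotient.mk J) (mul_one w)).symm]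
  exact Submodule.smul_mem_smul hw trivial

omit hk hGk in
/-- A generator of a group of prime order. -/
theorem exists_gen {p : ℕ} [Fact p.Prime] [Finite G] (hcard : Nat.card G = p) :
    ∃ γ : G, γ ≠ 1 ∧ ∀ σ : G, σ ∈ Subgroup.zpowers γ := by
  haveI : Nontrivial G := Finite.one_lt_card_iff_nontrivial.1 (hcard ▸ (Fact.out : p.Prime).one_lt)
  obtain ⟨γ, hγ⟩ := exists_ne (1 : G)
  exact ⟨γ, hγ, fun σ => mem_zpowers_of_prime_card hcard hγ⟩

end Groth.Agent.WildQuotLib
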