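import Mathlib
import Groth.Agent.WildQuotLib.CoeffPS
import Groth.Agent.WildQuotLib.RamOrigin
import Groth.Agent.WildQuotLib.Admissible
import Groth.Agent.GrSegreLib.Dim
import Groth.Agent.RegLocal.UFD

/-!
# The invariant ring of an action ramified at the origin
-/

open IsLocalRing Pointwise

namespace Groth.Agent.WildQuotLib

universe u v w

section Galois

variable {A : Type u} [CommRing A] (G : Type w) [Group G] [MulSemiringAction G A]

/-- The functions `σ ↦ σ • y` generate this subalgebra. -/
def orbitAlg : Subalgebra A (G → A) := Algebra.adjoin A (Set.range fun y : A => fun σ : G => σ • y)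

/-- `s` for which the Galois equations are solvable. -/
noncomputable def galoisIdeal [DecidableEq G] : Ideal A :=
  (orbitAlg (A := A) G).toSubmodule.comap (LinearMap.single A (fun _ : G => A) 1)

variable {G}

theorem mem_galoisIdeal_iff [DecidableEq G] (s : A) :
    s ∈ galoisIdeal (A := A) G ↔ ∃ (T : Finset A) (c : A → A),
      ∀ σ : G, ∑ y ∈ T, c y * σ • y = if σ = 1 then s else 0 := by
  have hspan : (orbitAlg (A := A) G).toSubmodule = Submodule.span A (Set.range fun y : A => fun σ : G => σ • y) := by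
    rw [orbitAlg, Algebra.adjoin_eq_span]
    congr 1
    refine le_antisymm ?_ Submonoid.subset_closure
    intro f hf
    induction hf using Submonoid.closure_induction with
    | mem f hf => exact hf
    | one => exact ⟨1, funext fun σ => smul_one σ⟩
    | mul f g _ _ hf hg =>
      obtain ⟨y, rfl⟩ := hf
      obtain ⟨z, rfl⟩ := hg
      exact ⟨y * z, funext fun σ => smul_mul' σ y z⟩
  rw [galoisIdeal, Submodule.mem_comap, hspan, LinearMap.single_apply]
  constructor
  · intro h
    obtain ⟨c, hc⟩ := Finsupp.mem_span_range_iff_exists_finsupp.1 h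
    refine ⟨c.support, c, fun σ => ?_⟩
    have := congrFun hc σ
    rw [Finsupp.sum, Finset.sum_apply] at this
    simp only [Pi.smul_apply, smul_eq_mul] at this
    rw [this, Pi.single_apply]
  · rintro ⟨T, c, h⟩
    have : (Pi.single 1 s : G → A) = ∑ y ∈ T, c y • (fun σ : G => σ • y) := by
      funext σ
      rw [Finset.sum_apply, Pi.single_apply]
      simpa only [Pi.smul_apply, smul_eq_mul] using (h σ).symm
    rw [this]
    exact sum_mem fun y _ => Submodule.smul_mem _ _ (Submodule.subset_span ⟨y, rfl⟩)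

theorem prod_mem_galoisIdeal [DecidableEq G] [Fintype G] (w : G → A) :
    ∏ τ ∈ Finset.univ.erase (1 : G), (w τ - τ • w τ) ∈ galoisIdeal (A := A) G := by
  set f : G → A := ∏ τ ∈ Finset.univ.erase (1 : G),
    ((fun σ : G => σ • w τ) - algebraMap A (G → A) (τ • w τ)) with hf
  have hmem : f ∈ orbitAlg (A := A) G :=
    prod_mem fun τ _ => sub_mem (Algebra.subset_adjoin ⟨w τ, rfl⟩) (Subalgebra.algebraMap_mem _ _)
  have hval : f = Pi.single 1 (∏ τ ∈ Finset.univ.erase (1 : G), (w τ - τ • w τ)) := by
    funext σ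
    rw [hf, Finset.prod_apply, Pi.single_apply]
    by_cases hσ : σ = 1
    · subst hσ; rw [if_pos rfl]; simp [Pi.algebraMap_apply]
    · rw [if_neg hσ]
      exact Finset.prod_eq_zero (Finset.mem_erase.2 ⟨hσ, Finset.mem_univ σ⟩) (by simp [Pi.algebraMap_apply])
  rw [hval] at hmem
  exact hmem

/-- The trace. -/
noncomputable def tr (G : Type w) [Group G] [Fintype G] {A : Type u} [CommRing A] [MulSemiringAction G A] (a : A) : A :=
  ∑ σ : G, σ • a

theorem smul_tr [Fintype G] (σ : G) (a : A) : σ • tr G a = tr G a := by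
  rw [tr, Finset.smul_sum]
  simp only [← mul_smul]
  exact Fintype.sum_bijective (σ * ·) (Group.mulLeft_bijective σ) _ _ fun _ => rfl

theorem tr_fixed_mul [Fintype G] {b : A} (hb : ∀ σ : G, σ • b = b) (a : A) : tr G (b * a) = b * tr G a := by
  rw [tr, tr, Finset.mul_sum]
  exact Finset.sum_congr rfl fun σ _ => by rw [smul_mul', hb]

theorem mul_eq_sum_tr [Fintype G] [DecidableEq G] {s : A} {T : Finset A} {c : A → A}
    (h : ∀ σ : G, ∑ y ∈ T, c y * σ • y = if σ = 1 then s else 0) (a : A) :
    s * a = ∑ y ∈ T, c y * tr G (y * a) := by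
  simp only [tr, Finset.mul_sum]
  rw [Finset.sum_comm]
  rw [Finset.sum_eq_single (1 : G)]
  · have h1 := h 1
    rw [if_pos rfl] at h1
    rw [← h1, Finset.sum_mul]
    exact Finset.sum_congr rfl fun y _ => by simp [mul_assoc]
  · intro σ _ hσ
    have h1 := h σ
    rw [if_neg hσ] at h1
    simp only [smul_mul', ← mul_assoc]
    rw [← Finset.sum_mul, h1, zero_mul]
  · simp

theorem mul_eq_sum_tr' [Fintype G] [DecidableEq G] {s : A} (hs : ∀ σ : G, σ • s = s) {T : Finset A} {c : A → A}
    (h : ∀ σ : G, ∑ y ∈ T, c y * σ • y = if σ = 1 then s else 0) (a : A) :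
    s * a = ∑ y ∈ T, y * tr G (c y * a) := by
  simp only [tr, Finset.mul_sum]
  rw [Finset.sum_comm]
  rw [Finset.sum_eq_single (1 : G)]
  · have h1 := h 1
    rw [if_pos rfl] at h1
    rw [← h1, Finset.sum_mul]
    exact Finset.sum_congr rfl fun y _ => by simp only [one_smul]; ring
  · intro σ _ hσ
    have h1 := congrArg (σ • ·) (h σ⁻¹)
    rw [if_neg (by simpa using hσ)] at h1
    simp only [Finset.smul_sum, smul_mul', smul_inv_smul, smul_zero] at h1
    simp only [smul_mul', ← mul_assoc]
    rw [← Finset.sum_mul, Finset.sum_congr rfl (fun y _ => mul_comm y (σ • c y)), h1, zero_mul]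
  · simp

end Galois

section Origin

variable {p : ℕ} [hp : Fact p.Prime] {A : Type u} [CommRing A] [IsRegularLocalRing A] [CharP A p]
  {k : Type v} [Field k] [Algebra k A] {G : Type w} [Group G] [MulSemiringAction G A]

theorem exists_notMem_galoisIdeal [Fintype G] [DecidableEq G]
    (hram : ∀ P : Ideal A, P.IsPrime → P ≠ maximalIdeal A → P.inertia G = ⊥) :
    maximalIdeal A ≤ (galoisIdeal (A := A) G).radical := by
  haveI := RegLocal.isDomain A
  rw [Ideal.radical_eq_sInf]
  refine le_sInf ?_
  rintro P ⟨hKP, hP⟩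
  by_contra hne
  have hPm : P ≠ maximalIdeal A := fun h => hne h.ge
  have hw : ∀ τ : G, ∃ w : A, τ ≠ 1 → w - τ • w ∉ P := by
    intro τ
    by_cases hτ : τ = 1
    · exact ⟨0, fun h => absurd hτ h⟩
    by_contra! hall
    have hmem : τ ∈ P.inertia G := fun a => by
      show τ • a - a ∈ P
      rw [← neg_sub]; exact neg_mem (hall a).2
    rw [hram P hP hPm, Subgroup.mem_bot] at hmem
    exact hτ hmem
  choose w hw using hw
  obtain ⟨τ, hτ, hmem⟩ := hP.prod_mem_iff.1 (hKP (prod_mem_galoisIdeal w))
  exact hw τ (Finset.ne_of_mem_erase hτ) hmem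

variable [IsAdicComplete (maximalIdeal A) A]
variable (hk : Function.Surjective (residue A ∘ algebraMap k A))
  (hGk : ∀ (σ : G) (c : k), σ • algebraMap k A c = algebraMap k A c)

include hk hGk

/-- The norm subring. -/
theorem exists_normPS [Fintype G] (hcard : Fintype.card G = p) {n : ℕ} (hn : ringKrullDim A = n) :
    ∃ (u : Fin n → A) (φ : MvPowerSeries (Fin n) k →ₐ[k] A),
      (∀ i, φ (MvPowerSeries.X i) = ∏ σ : G, σ • u i) ∧
      (Ideal.span (Set.range fun i => ∏ σ : G, σ • u i)).radical = maximalIdeal A ∧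
      (∀ (σ : G) (r), σ • φ r = φ r) := by
  classical
  haveI := RegLocal.isDomain A
  have hG : IsPGroup p G := IsPGroup.of_card (n := 1) (by rw [pow_one, Nat.card_eq_fintype_card, hcard])
  have hsf : (maximalIdeal A).spanFinrank ≤ n := by
    have h := ((isRegularLocalRing_iff A).1 inferInstance).trans hn
    exact le_of_eq (by exact_mod_cast h)
  obtain ⟨u, hu, htri⟩ := exists_triangular (A := A) hG hsf
  have hadm := admissible_of_triangular u hu htri
  have hxm : ∀ i, ∏ σ : G, σ • u i ∈ maximalIdeal A := fun i => by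
    refine Ideal.prod_mem _ (Finset.mem_univ (1 : G)) ?_
    rw [one_smul]; exact hu ▸ Ideal.subset_span ⟨i, rfl⟩
  obtain ⟨φ, hφ⟩ := exists_psHom (k := k) (maximalIdeal A) (fun i => ∏ σ : G, σ • u i) hxm
  refine ⟨u, φ, hφ, ?_, fun σ r => ?_⟩
  · refine le_antisymm ?_ ?_
    · rw [← (maximalIdeal.isMaximal A).isPrime.radical]
      exact Ideal.radical_mono (Ideal.span_le.2 (by rintro _ ⟨i, rfl⟩; exact hxm i))
    · rw [Ideal.radical_eq_sInf]
      refine le_sInf ?_
      rintro P ⟨hQP, hP⟩
      choose τ hτ using fun i => hP.prod_mem_iff.1 (hQP (Ideal.subset_span ⟨i, rfl⟩))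
      rw [← hadm τ, Ideal.span_le]
      rintro _ ⟨i, rfl⟩
      exact (hτ i).2
  · let S : A →ₐ[k] A := { MulSemiringAction.toRingHom G A σ with commutes' := fun c => hGk σ c }
    have hfix : ∀ i, σ • (∏ τ : G, τ • u i) = ∏ τ : G, τ • u i := fun i => by
      rw [Finset.smul_prod']
      simp only [← mul_smul]
      exact Fintype.prod_bijective (σ * ·) (Group.mulLeft_bijective σ) _ _ fun _ => rfl
    have h : S.comp φ = φ := psHom_ext (maximalIdeal A)
      (fun i => by show σ • φ _ ∈ _; rw [hφ, hfix]; exact hxm i)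
      (fun i => by show σ • φ _ = φ _; rw [hφ, hfix])
    exact DFunLike.congr_fun h r

omit hk hGk in
theorem subring_isIntegral [Finite G] : (FixedPoints.subring A G).subtype.IsIntegral := by
  letI := Fintype.ofFinite G
  intro a
  refine ⟨Polynomial.toSubring (∏ σ : G, (Polynomial.X - Polynomial.C (σ • a))) (FixedPoints.subring A G) ?_, ?_, ?_⟩
  · intro c hc
    rw [Finset.mem_coe, Polynomial.mem_coeffs_iff] at hc
    obtain ⟨l, -, rfl⟩ := hc
    intro τ
    have h : (∏ σ : G, (Polynomial.X - Polynomial.C (σ • a))).map (MulSemiringAction.toRingHom G A τ) =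
        ∏ σ : G, (Polynomial.X - Polynomial.C (σ • a)) := by
      rw [Polynomial.map_prod]
      refine Fintype.prod_bijective (τ * ·) (Group.mulLeft_bijective τ) _ _ fun σ => ?_
      simp [mul_smul]
    conv_rhs => rw [← h]
    rw [Polynomial.coeff_map]
    rfl
  · rw [Polynomial.monic_toSubring]; exact Polynomial.monic_prod_X_sub_C _ _
  · rw [Polynomial.eval₂_eq_eval_map, show Subring.subtype _ = algebraMap (FixedPoints.subring A G) A from rfl]
    rw [show (Polynomial.toSubring _ _ _).map (algebraMap (FixedPoints.subring A G) A) = _ from Polynomial.map_toSubring _ _ _,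
      Polynomial.eval_prod]
    exact Finset.prod_eq_zero (Finset.mem_univ 1) (by simp)

omit hk hGk in
theorem subring_isLocalRing : IsLocalRing (FixedPoints.subring A G) := by
  refine IsLocalRing.of_isUnit_or_isUnit_one_sub_self fun b => ?_
  have key : ∀ b : FixedPoints.subring A G, IsUnit (b : A) → IsUnit b := fun b hb => by
    obtain ⟨c, hc⟩ := hb.exists_right_inv
    have hcfix : ∀ σ : G, σ • c = c := fun σ => by
      refine hb.mul_left_cancel ?_
      have h := congrArg (σ • ·) hc
      simp only [smul_mul', b.2 σ, smul_one] at h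
      rw [h, hc]
    exact IsUnit.of_mul_eq_one (⟨c, hcfix⟩ : FixedPoints.subring A G) (Subtype.ext hc)
  exact (IsLocalRing.isUnit_or_isUnit_one_sub_self (b : A)).imp (key b) (key (1 - b))

omit hk hGk in
theorem subring_ringKrullDim [Finite G] : ringKrullDim (FixedPoints.subring A G) = ringKrullDim A :=
  GrSegreLib.ringKrullDim_eq_of_integral_injective _ Subtype.val_injective subring_isIntegral

omit hk hGk in
theorem subring_isIntegrallyClosed [Finite G] : IsIntegrallyClosed (FixedPoints.subring A G) := by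
  haveI := RegLocal.isDomain A
  haveI : UniqueFactorizationMonoid A := RegLocal.ufd A
  let B := FixedPoints.subring A G
  refine (isIntegrallyClosed_iff (FractionRing B)).2 fun {x} hx => ?_
  obtain ⟨b, c, hc, rfl⟩ := IsFractionRing.div_surjective (A := B) x
  let Φ : FractionRing B →+* FractionRing A := IsFractionRing.map (A := B) (B := A) (j := B.subtype) Subtype.val_injective
  have hΦ : ∀ b : B, Φ (algebraMap B _ b) = algebraMap A (FractionRing A) (b : A) := fun b => IsLocalization.map_eq _ b
  have hint : IsIntegral A (Φ (algebraMap B _ b / algebraMap B _ c)) := by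
    obtain ⟨P, hP, hPx⟩ := hx
    refine ⟨P.map B.subtype, hP.map _, ?_⟩
    rw [Polynomial.eval₂_map,
      show (algebraMap A (FractionRing A)).comp B.subtype = Φ.comp (algebraMap B (FractionRing B)) from
        RingHom.ext fun b => (hΦ b).symm,
      ← Polynomial.hom_eval₂, hPx, map_zero]
  obtain ⟨t, ht⟩ := IsIntegrallyClosed.isIntegral_iff.1 hint
  rw [map_div₀, hΦ, hΦ] at ht
  have hc0 : (c : A) ≠ 0 := fun h => nonZeroDivisors.ne_zero hc (Subtype.ext h)
  have htc : t * c = b := IsFractionRing.injective A (FractionRing A) (by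
    rw [map_mul, ht, div_mul_cancel₀]
    exact fun h => hc0 (IsFractionRing.injective A (FractionRing A) (h.trans (map_zero _).symm)))
  have htfix : ∀ σ : G, σ • t = t := fun σ => by
    have h := congrArg (σ • ·) htc
    simp only [smul_mul', c.2 σ, b.2 σ] at h
    exact mul_right_cancel₀ hc0 (h.trans htc.symm)
  refine ⟨⟨t, htfix⟩, ?_⟩
  rw [eq_div_iff (fun h => nonZeroDivisors.ne_zero hc (IsFractionRing.injective B (FractionRing B) (h.trans (map_zero _).symm))),
    ← map_mul]
  exact congrArg _ (Subtype.ext htc)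

/-- The invariant ring is a complete noetherian local ring and `A` is finite over it. -/
theorem subring_finiteness [Finite G] (hcard : Nat.card G = p) :
    IsNoetherianRing (FixedPoints.subring A G) ∧ Module.Finite (FixedPoints.subring A G) A ∧
      IsAdicComplete (Ideal.comap (FixedPoints.subring A G).subtype (maximalIdeal A)) (FixedPoints.subring A G) := by
  classical
  letI := Fintype.ofFinite G
  obtain ⟨n, hn⟩ := RegLocal.exists_nat_ringKrullDim A
  obtain ⟨u, φ, hφ, hrad, hfix⟩ := exists_normPS hk hGk (by rwa [← Nat.card_eq_fintype_card]) hn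
  obtain ⟨d, b, -, hb⟩ := exists_basis_ps hn hk _ hrad φ hφ
  set R := MvPowerSeries (Fin n) k
  set B := FixedPoints.subring A G
  let ψ : R →+* B := φ.toRingHom.codRestrict B fun r σ => hfix σ r
  letI : Algebra R A := φ.toRingHom.toAlgebra
  letI : Algebra R B := ψ.toAlgebra
  haveI : IsScalarTower R B A := IsScalarTower.of_algebraMap_eq fun r => rfl
  let e : (Fin d → R) ≃ₗ[R] A := LinearEquiv.ofBijective (Fintype.linearCombination R b) hb
  let bA : Module.Basis (Fin d) R A := (Pi.basisFun R (Fin d)).map e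
  haveI : Module.Finite R A := Module.Finite.of_basis bA
  let ι : B →ₗ[R] A := { toFun := Subtype.val, map_add' := fun _ _ => rfl, map_smul' := fun _ _ => rfl }
  haveI : Module.Finite R B := Module.Finite.of_injective ι Subtype.val_injective
  haveI hBn : IsNoetherianRing B := IsNoetherianRing.of_finite R B
  refine ⟨hBn, Module.Finite.of_restrictScalars_finite R B A, ?_⟩
  haveI := isAdicComplete_of_basis (maximalIdeal R) bA
  set I := maximalIdeal R
  -- `B` is closed in `A`
  obtain ⟨c, hc⟩ := Ideal.exists_pow_inf_eq_pow_smul I (LinearMap.range ι)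
  have hsmul : ∀ (K : Ideal R), (K • ⊤ : Submodule R B).map ι = K • LinearMap.range ι := fun K => by
    rw [Submodule.map_smul'', Submodule.map_top]
  have hpull : ∀ (l : ℕ) (x : B), ι x ∈ (I ^ (l + c) • ⊤ : Submodule R A) → x ∈ (I ^ l • ⊤ : Submodule R B) := by
    intro l x hx
    have h1 : ι x ∈ I ^ l • LinearMap.range ι := by
      have h2 : ι x ∈ (I ^ (l + c) • ⊤ : Submodule R A) ⊓ LinearMap.range ι := ⟨hx, x, rfl⟩
      rw [hc (l + c) (Nat.le_add_left c l), Nat.add_sub_cancel] at h2
      exact Submodule.smul_mono le_rfl inf_le_right h2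
    rw [← hsmul] at h1
    obtain ⟨x', hx', hxx'⟩ := h1
    rwa [← Subtype.val_injective hxx']
  have hpush : ∀ (l : ℕ) (x : B), x ∈ (I ^ l • ⊤ : Submodule R B) → ι x ∈ (I ^ l • ⊤ : Submodule R A) := fun l x hx =>
    Submodule.smul_mono le_rfl le_top ((hsmul _) ▸ Submodule.mem_map_of_mem hx)
  haveI : IsHausdorff I B := ⟨fun x hx => Subtype.val_injective (IsHausdorff.haus (I := I) (inferInstance : IsHausdorff I A) (ι x) fun l =>
    SModEq.zero.2 (hpush l x (SModEq.zero.1 (hx l))))⟩
  haveI : IsPrecomplete I B := by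
    refine ⟨fun f hf => ?_⟩
    obtain ⟨L, hL⟩ := IsPrecomplete.prec (I := I) (inferInstance : IsPrecomplete I A) (f := fun l => ι (f l))
      (fun {a a'} h => SModEq.sub_mem.2 (by rw [← map_sub]; exact hpush a _ (SModEq.sub_mem.1 (hf h))))
    have hLmem : L ∈ LinearMap.range ι := by
      have hI1 : I ≠ ⊤ := (maximalIdeal.isMaximal R).ne_top
      rw [← Submodule.Quotient.mk_eq_zero (LinearMap.range ι), ← Submodule.mem_bot R,
        ← Ideal.iInf_pow_smul_eq_bot_of_isLocalRing (M := A ⧸ LinearMap.range ι) I hI1, Submodule.mem_iInf]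
      intro l
      have h1 := SModEq.sub_mem.1 (hL l)
      have h2 : (LinearMap.range ι).mkQ (ι (f l) - L) ∈ (I ^ l • ⊤ : Submodule R A).map (LinearMap.range ι).mkQ :=
        Submodule.mem_map_of_mem h1
      rw [Submodule.map_smul'', Submodule.map_top, Submodule.range_mkQ, map_sub] at h2
      have h3 : (LinearMap.range ι).mkQ (ι (f l)) = 0 := (Submodule.Quotient.mk_eq_zero _).2 ⟨_, rfl⟩
      rw [h3, zero_sub, neg_mem_iff] at h2
      exact h2
    obtain ⟨L', rfl⟩ := hLmem
    refine ⟨L', fun l => SModEq.sub_mem.2 ?_⟩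
    have h1 : f l - f (l + c) ∈ (I ^ l • ⊤ : Submodule R B) := SModEq.sub_mem.1 (hf (Nat.le_add_right l c))
    have h2 : f (l + c) - L' ∈ (I ^ l • ⊤ : Submodule R B) := hpull l _ (by rw [map_sub]; exact SModEq.sub_mem.1 (hL (l + c)))
    simpa using add_mem h1 h2
  haveI : IsAdicComplete I B := by constructor
  haveI : IsAdicComplete (I.map (algebraMap R B)) B :=
    (IsAdicComplete.map_algebraMap_iff (R := R) (S := B) (M := B) I).2 inferInstance
  have hle : I.map (algebraMap R B) ≤ Ideal.comap B.subtype (maximalIdeal A) := by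
    rw [show I = Ideal.span (Set.range MvPowerSeries.X) from maximalIdeal_eq k n, Ideal.map_span, Ideal.span_le]
    rintro _ ⟨_, ⟨i, rfl⟩, rfl⟩
    show φ (MvPowerSeries.X i) ∈ maximalIdeal A
    rw [hφ, ← hrad]
    exact Ideal.le_radical (Ideal.subset_span ⟨i, rfl⟩)
  obtain ⟨N, hN⟩ : ∃ N, (Ideal.comap B.subtype (maximalIdeal A)) ^ N ≤ I.map (algebraMap R B) := by
    refine Ideal.exists_pow_le_of_le_radical_of_fg ?_ (IsNoetherian.noetherian _)
    rw [Ideal.radical_eq_sInf]
    refine le_sInf ?_
    rintro P ⟨hIP, hP⟩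
    letI : Algebra B A := B.subtype.toAlgebra
    haveI : Algebra.IsIntegral B A := ⟨subring_isIntegral⟩
    obtain ⟨Q, -, hQ, hQP⟩ := Ideal.exists_ideal_over_prime_of_isIntegral (S := A) P (⊥ : Ideal A)
      (le_trans (by rw [← RingHom.ker_eq_comap_bot, (RingHom.injective_iff_ker_eq_bot _).1 (show Function.Injective (algebraMap B A) from Subtype.val_injective)]) bot_le)
    have hQm : maximalIdeal A ≤ Q := by
      rw [← hrad, hQ.radical_le_iff, Ideal.span_le]
      rintro _ ⟨i, rfl⟩
      have h1 : ψ (MvPowerSeries.X i) ∈ P := hIP (Ideal.mem_map_of_mem _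
        ((mem_maximalIdeal_iff_constantCoeff k _).2 (MvPowerSeries.constantCoeff_X i)))
      rw [← hQP] at h1
      have h2 : φ (MvPowerSeries.X i) ∈ Q := h1
      rwa [hφ] at h2
    rw [← hQP]
    exact Ideal.comap_mono hQm
  exact isAdicComplete_of_pow_le hle (N := N + 1) (Nat.succ_pos _) ((Ideal.pow_le_pow_right (Nat.le_succ N)).trans hN)

end Origin

end Groth.Agent.WildQuotLib
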