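import Mathlib
import Groth.Agent.WildQuotLib.RamGalois
import Groth.Agent.RegLocal.Consequences

/-!
# Traces, flatness and the singular locus for actions ramified at the origin
-/

open IsLocalRing Pointwise

namespace Groth.Agent.WildQuotLib

universe u v w

variable {p : ℕ} [hp : Fact p.Prime] {A : Type u} [CommRing A] [IsRegularLocalRing A] [CharP A p]
  {k : Type v} [Field k] [Algebra k A] {G : Type w} [Group G] [Fintype G] [MulSemiringAction G A]
  [IsAdicComplete (maximalIdeal A) A]

omit hp [CharP A p] in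
theorem exists_pow_mem_galoisIdeal [DecidableEq G]
    (hram : ∀ P : Ideal A, P.IsPrime → P ≠ maximalIdeal A → P.inertia G = ⊥) {x : A} (hx : x ∈ maximalIdeal A) :
    ∃ N : ℕ, x ^ N ∈ galoisIdeal (A := A) G :=
  exists_notMem_galoisIdeal hram hx

omit hp [CharP A p] in
theorem isPrime_maximal_comap : (Ideal.comap (FixedPoints.subring A G).subtype (maximalIdeal A)).IsMaximal := by
  letI : Algebra (FixedPoints.subring A G) A := (FixedPoints.subring A G).subtype.toAlgebra
  haveI : Algebra.IsIntegral (FixedPoints.subring A G) A := ⟨subring_isIntegral⟩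
  exact Ideal.isMaximal_comap_of_isIntegral_of_isMaximal (R := FixedPoints.subring A G) (maximalIdeal A)

omit hp [CharP A p] in
theorem exists_mem_notMem (P : Ideal (FixedPoints.subring A G)) [P.IsPrime] (hP : ¬ P.IsMaximal) :
    ∃ b : FixedPoints.subring A G, (b : A) ∈ maximalIdeal A ∧ b ∉ P := by
  by_contra! h
  have hm := isPrime_maximal_comap (A := A) (G := G)
  exact hP ((hm.eq_of_le (Ideal.IsPrime.ne_top ‹_›) fun b hb => h b hb) ▸ hm)

variable (hk : Function.Surjective (residue A ∘ algebraMap k A))
  (hGk : ∀ (σ : G) (c : k), σ • algebraMap k A c = algebraMap k A c)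

include hk hGk

theorem tr_mem_maximalIdeal (hcard : Fintype.card G = p) (a : A) : tr G a ∈ maximalIdeal A := by
  have h : tr G a = ∑ σ : G, (σ • a - a) := by
    rw [tr, Finset.sum_sub_distrib, Finset.sum_const, Finset.card_univ, hcard, nsmul_eq_mul, CharP.cast_eq_zero,
      zero_mul, sub_zero]
  rw [h]
  exact sum_mem fun σ _ => smul_sub_mem_maximalIdeal hk hGk σ a

/-- `A` is not flat over its invariants. -/
theorem not_flat (hdim : 2 ≤ ringKrullDim A) (hcard : Fintype.card G = p)
    (hram : ∀ P : Ideal A, P.IsPrime → P ≠ maximalIdeal A → P.inertia G = ⊥) :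
    ¬ Module.Flat (FixedPoints.subring A G) A := by
  classical
  intro hflat
  obtain ⟨hBn, hfin, -⟩ := subring_finiteness (p := p) hk hGk (by rwa [Nat.card_eq_fintype_card])
  set B := FixedPoints.subring A G with hBdef
  haveI := subring_isLocalRing (A := A) (G := G)
  haveI : Module.FinitePresentation B A := Module.finitePresentation_of_finite _ _
  haveI : Module.Free B A := Module.free_of_flat_of_isLocalRing
  haveI : IsDomain A := RegLocal.isDomain A
  haveI : IsDomain B := Subring.instIsDomainSubtypeMem B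
  set r := Module.finrank B A with hr
  let b : Module.Basis (Fin r) B A := Module.finBasis B A
  let trB : A → B := fun a => ⟨tr G a, fun σ => smul_tr σ a⟩
  let M : Matrix (Fin r) (Fin r) B := Matrix.of fun i j => trB (b i * b j)
  have hrpos : 0 < r := by
    rw [hr]; exact Module.finrank_pos
  set mB := Ideal.comap B.subtype (maximalIdeal A) with hmB
  have hdet : M.det ∈ mB := by
    obtain ⟨i⟩ : Nonempty (Fin r) := ⟨⟨0, hrpos⟩⟩
    rw [Matrix.det_apply]
    refine sum_mem fun σ _ => ?_
    rw [Units.smul_def, zsmul_eq_mul]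
    refine Ideal.mul_mem_left _ _ (Ideal.prod_mem _ (Finset.mem_univ i) ?_)
    exact tr_mem_maximalIdeal hk hGk hcard _
  -- the discriminant divides powers of elements of the Galois ideal
  have hdvd : ∀ s : B, (s : A) ∈ galoisIdeal (A := A) G → M.det ∣ s ^ r := by
    intro s hs
    obtain ⟨T, c, h⟩ := (mem_galoisIdeal_iff _).1 hs
    have hsfix : ∀ σ : G, σ • (s : A) = (s : A) := fun σ => s.2 σ
    let a : Fin r → A := fun j => ∑ y ∈ T, (b.repr y j : A) * c y
    let N : Matrix (Fin r) (Fin r) B := Matrix.of fun i j => b.repr (a j) i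
    have hMN : M * N = Matrix.diagonal fun _ => s := by
      ext l j
      refine congrArg (fun z : B => (z : A)) (?_ : (M * N) l j = _)
      have h1 : (M * N) l j = trB (b l * a j) := by
        refine Subtype.ext ?_
        show _ = tr G (b l * a j)
        conv_rhs => rw [← b.sum_repr (a j)]
        simp only [Matrix.mul_apply, AddSubmonoidClass.coe_finsetSum, Finset.mul_sum, tr, Finset.smul_sum]
        rw [Finset.sum_comm]
        refine Finset.sum_congr rfl fun i _ => ?_
        show tr G (b l * b i) * (b.repr (a j) i : A) = ∑ σ : G, σ • (b l * ((b.repr (a j) i : A) * b i))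
        rw [mul_comm, ← tr_fixed_mul (fun σ => (b.repr (a j) i).2 σ), tr]
        exact Finset.sum_congr rfl fun σ _ => by congr 1; ring
      rw [h1, Matrix.diagonal_apply]
      refine Subtype.ext ?_
      show tr G (b l * a j) = _
      -- evaluate the trace
      have h2 : tr G (b l * a j) = ∑ y ∈ T, (b.repr y j : A) * tr G (c y * b l) := by
        simp only [a, Finset.mul_sum, tr, Finset.smul_sum]
        rw [Finset.sum_comm]
        refine Finset.sum_congr rfl fun y _ => Finset.sum_congr rfl fun σ _ => ?_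
        rw [mul_left_comm, smul_mul', (b.repr y j).2 σ, mul_comm (b l)]
      rw [h2]
      have h3 := mul_eq_sum_tr' hsfix h (b l)
      have h4 : s • b l = ∑ y ∈ T, trB (c y * b l) • y := by
        show (s : A) * b l = ∑ y ∈ T, tr G (c y * b l) * y
        rw [h3]; exact Finset.sum_congr rfl fun y _ => mul_comm _ _
      have h5 := congrArg (fun z => ((b.repr z j : B) : A)) h4
      simp only [map_smul, map_sum, b.repr_self, Finsupp.smul_apply, Finsupp.finsetSum_apply, smul_eq_mul,
        AddSubmonoidClass.coe_finsetSum] at h5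
      rw [Finset.sum_congr rfl (fun y _ => mul_comm ((b.repr y j : A)) _)]
      refine h5.symm.trans ?_
      by_cases hlj : l = j
      · subst hlj; simp
      · simp [hlj, Finsupp.single_eq_of_ne (Ne.symm hlj)]
    have h6 := congrArg Matrix.det hMN
    rw [Matrix.det_mul, Matrix.det_diagonal, Finset.prod_const, Finset.card_univ, Fintype.card_fin] at h6
    exact ⟨_, h6.symm⟩
  haveI : mB.IsMaximal := isPrime_maximal_comap
  have hmin : mB ∈ (Ideal.span {M.det}).minimalPrimes := by
    refine ⟨⟨inferInstance, (Ideal.span_singleton_le_iff_mem _).2 hdet⟩, fun Q hQ hQle b hb => ?_⟩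
    obtain ⟨N, hN⟩ := exists_pow_mem_galoisIdeal hram (show (b : A) ∈ maximalIdeal A from hb)
    have h := hdvd (b ^ N) (by push_cast; exact hN)
    exact hQ.1.mem_of_pow_mem r (hQ.1.mem_of_pow_mem N ((pow_right_comm b N r ▸ hQ.2 (Ideal.mem_span_singleton.2 h) : _)))
  have h1 : mB.height ≤ 1 := Ideal.height_le_one_of_isPrincipal_of_mem_minimalPrimes (Ideal.span {M.det}) mB hmin
  have h2 : (mB.height : WithBot ℕ∞) = ringKrullDim B := by
    rw [IsLocalRing.eq_maximalIdeal (inferInstance : mB.IsMaximal)]
    exact IsLocalRing.maximalIdeal_height_eq_ringKrullDim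
  rw [subring_ringKrullDim] at h2
  rw [← h2] at hdim
  have h3 : (2 : ℕ∞) ≤ mB.height := WithBot.coe_le_coe.1 hdim
  exact absurd (h3.trans h1) (by decide)

omit hp [CharP A p] hk hGk in
/-- Regularity of the invariants away from the closed point. -/
theorem isRegularLocalRing_localization [Module.Finite (FixedPoints.subring A G) A] [IsNoetherianRing (FixedPoints.subring A G)]
    (hram : ∀ P : Ideal A, P.IsPrime → P ≠ maximalIdeal A → P.inertia G = ⊥)
    (P : Ideal (FixedPoints.subring A G)) [P.IsPrime] (hP : ¬ P.IsMaximal) :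
    IsRegularLocalRing (Localization.AtPrime P) := by
  classical
  let B := FixedPoints.subring A G
  obtain ⟨b, hbm, hbP⟩ := exists_mem_notMem P hP
  obtain ⟨N, hN⟩ := exists_pow_mem_galoisIdeal hram hbm
  set s : B := b ^ N with hs
  have hsP : s ∉ P := fun h => hbP (Ideal.IsPrime.mem_of_pow_mem ‹_› N h)
  obtain ⟨T, c, h⟩ := (mem_galoisIdeal_iff _).1 (show (s : A) ∈ galoisIdeal (A := A) G by rw [hs]; push_cast; exact hN)
  let e : A →ₗ[B] (T → B) :=
    { toFun := fun a y => ⟨tr G (y.1 * a), fun σ => smul_tr σ _⟩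
      map_add' := fun a a' => funext fun y => Subtype.ext (by
        show tr G (y.1 * (a + a')) = tr G (y.1 * a) + tr G (y.1 * a')
        rw [tr, tr, tr, ← Finset.sum_add_distrib]
        exact Finset.sum_congr rfl fun σ _ => by rw [mul_add, smul_add])
      map_smul' := fun r a => funext fun y => Subtype.ext (by
        show tr G (y.1 * ((r : A) * a)) = (r : A) * tr G (y.1 * a)
        rw [mul_left_comm, tr_fixed_mul (fun σ => r.2 σ)]) }
  let f : (T → B) →ₗ[B] A := Fintype.linearCombination B (fun y => c y.1)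
  have hfe : f ∘ₗ e = s • LinearMap.id := by
    refine LinearMap.ext fun a => ?_
    simp only [LinearMap.comp_apply, LinearMap.smul_apply, LinearMap.id_apply, f, Fintype.linearCombination_apply]
    show ∑ y : T, tr G (y.1 * a) * c y.1 = (s : A) * a
    rw [mul_eq_sum_tr h, Finset.sum_coe_sort T (fun y => tr G (y * a) * c y)]
    exact Finset.sum_congr rfl fun y _ => mul_comm _ _
  let S := P.primeCompl
  let L := Localization.AtPrime P
  let A' := Localization (Algebra.algebraMapSubmonoid A S)
  haveI : IsLocalizedModule S (IsScalarTower.toAlgHom B A A').toLinearMap :=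
    (isLocalizedModule_iff_isLocalization).2 inferInstance
  let g := (IsScalarTower.toAlgHom B A A').toLinearMap
  let g' : (T → B) →ₗ[B] (T → L) := LinearMap.pi fun y => (Algebra.linearMap B L).comp (LinearMap.proj y)
  haveI : IsLocalizedModule S g' := inferInstance
  let e' : A' →ₗ[B] (T → L) := IsLocalizedModule.map S g g' e
  let f' : (T → L) →ₗ[B] A' := IsLocalizedModule.map S g' g f
  have hfe' : ∀ x : A', f' (e' x) = s • x := by
    intro x
    obtain ⟨⟨a, t⟩, ht⟩ := IsLocalizedModule.surj S g x
    refine (IsLocalizedModule.smul_injective g t) ?_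
    show t • f' (e' x) = t • (s • x)
    rw [← LinearMap.map_smul_of_tower, ← LinearMap.map_smul_of_tower, ht, smul_comm, ht,
      show e' (g a) = g' (e a) from IsLocalizedModule.map_apply _ _ _ _ _,
      show f' (g' (e a)) = g (f (e a)) from IsLocalizedModule.map_apply _ _ _ _ _,
      show f (e a) = s • a from DFunLike.congr_fun hfe a, map_smul]
  haveI : Module.Flat B A' := by
    have hu : IsUnit (algebraMap B L s) := IsLocalization.map_units L (⟨s, hsP⟩ : S)
    haveI : Module.Flat B L := IsLocalization.flat L S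
    haveI : Module.Flat B (T →₀ L) := Module.Flat.of_linearEquiv (finsuppLequivDFinsupp (R := B) (ι := T) (M := L))
    haveI : Module.Flat B (T → L) := Module.Flat.of_linearEquiv (Finsupp.linearEquivFunOnFinite B L T).symm
    have hbij : Function.Bijective (fun x : A' => s • x) :=
      ⟨fun a a' h => IsLocalizedModule.smul_injective g (⟨s, hsP⟩ : S) h,
        fun a => ((Module.End.isUnit_iff _).1 (IsLocalizedModule.map_units g (⟨s, hsP⟩ : S))).2 a⟩
    let es : A' ≃ₗ[B] A' := LinearEquiv.ofBijective (s • LinearMap.id) hbij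
    exact Module.Flat.of_retract e' (es.symm.toLinearMap ∘ₗ f') (LinearMap.ext fun x => by
      show es.symm (f' (e' x)) = x
      rw [hfe', LinearEquiv.symm_apply_eq]
      rfl)
  -- a prime above `P`
  letI : Algebra B A := inferInstance
  haveI : Algebra.IsIntegral B A := Algebra.IsIntegral.of_finite B A
  obtain ⟨Q, -, hQ, hQP⟩ := Ideal.exists_ideal_over_prime_of_isIntegral (S := A) P (⊥ : Ideal A)
    (le_trans (by rw [← RingHom.ker_eq_comap_bot, (RingHom.injective_iff_ker_eq_bot _).1 (show Function.Injective (algebraMap B A) from Subtype.val_injective)]) bot_le)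
  haveI := RegLocal.isRegularLocalRing_localization A Q
  let AQ := Localization.AtPrime Q
  have hle : Algebra.algebraMapSubmonoid A S ≤ Q.primeCompl := by
    rintro _ ⟨x, hx, rfl⟩ hxQ
    exact hx (hQP ▸ hxQ)
  letI : Algebra A' AQ := IsLocalization.localizationAlgebraOfSubmonoidLe A' AQ _ _ hle
  haveI : IsScalarTower A A' AQ := IsLocalization.localization_isScalarTower_of_submonoid_le A' AQ _ _ hle
  haveI : IsScalarTower B A' AQ := IsScalarTower.of_algebraMap_eq fun x => by
    rw [IsScalarTower.algebraMap_apply B A A', ← IsScalarTower.algebraMap_apply A A' AQ, ← IsScalarTower.algebraMap_apply B A AQ]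
  haveI : Module.Flat A' AQ := by
    haveI := IsLocalization.isLocalization_of_submonoid_le A' AQ _ _ hle
    exact IsLocalization.flat AQ (Submonoid.map (algebraMap A A') Q.primeCompl)
  haveI : Module.Flat B AQ := Module.Flat.trans B A' AQ
  letI : Algebra L AQ := IsLocalization.lift (M := S) (g := algebraMap B AQ) (fun x => by
    rw [IsScalarTower.algebraMap_apply B A AQ]
    exact IsLocalization.map_units AQ (⟨algebraMap B A x, hle ⟨x, x.2, rfl⟩⟩ : Q.primeCompl)) |>.toAlgebra
  haveI : IsScalarTower B L AQ := IsScalarTower.of_algebraMap_eq fun x => (IsLocalization.lift_eq _ x).symm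
  haveI : Module.Flat L AQ := (Module.flat_iff_of_isLocalization L S AQ).2 inferInstance
  haveI : IsLocalHom (algebraMap L AQ) := ⟨fun x hx => by
    obtain ⟨a, t, rfl⟩ := IsLocalization.exists_mk'_eq S x
    refine (IsLocalization.AtPrime.isUnit_mk'_iff L P a t).2 fun haP => ?_
    have h1 : algebraMap B AQ a = algebraMap L AQ (IsLocalization.mk' L a t) * algebraMap B AQ t := by
      rw [IsScalarTower.algebraMap_apply B L AQ t, ← map_mul, IsLocalization.mk'_spec, ← IsScalarTower.algebraMap_apply]
    have h2 : IsUnit (algebraMap B AQ a) := h1 ▸ hx.mul (by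
      rw [IsScalarTower.algebraMap_apply B A AQ]
      exact IsLocalization.map_units AQ (⟨algebraMap B A t, hle ⟨t, t.2, rfl⟩⟩ : Q.primeCompl))
    rw [IsScalarTower.algebraMap_apply B A AQ, IsLocalization.AtPrime.isUnit_to_map_iff AQ Q] at h2
    exact h2 (by rw [← hQP] at haP; exact haP)⟩
  haveI : IsNoetherianRing L := IsLocalization.isNoetherianRing S L inferInstance
  exact RegLocal.isRegularLocalRing_of_flat L AQ

omit hk hGk in
/-- Powers of elements of the maximal ideal are traces. -/
theorem exists_pow_eq_tr (hram : ∀ P : Ideal A, P.IsPrime → P ≠ maximalIdeal A → P.inertia G = ⊥)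
    (x : FixedPoints.subring A G) (hx : (x : A) ∈ maximalIdeal A) :
    ∃ (N : ℕ) (θ : A), tr G θ = (x : A) ^ N := by
  classical
  let B := FixedPoints.subring A G
  let T : Ideal B :=
    { carrier := {b | ∃ θ, tr G θ = (b : A)}
      zero_mem' := ⟨0, by simp [tr]⟩
      add_mem' := fun {b b'} ⟨θ, hθ⟩ ⟨θ', hθ'⟩ => ⟨θ + θ', by
        rw [Subring.coe_add, ← hθ, ← hθ', tr, tr, tr, ← Finset.sum_add_distrib]
        exact Finset.sum_congr rfl fun σ _ => smul_add _ _ _⟩
      smul_mem' := fun r b ⟨θ, hθ⟩ => ⟨(r : A) * θ, by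
        rw [tr_fixed_mul (fun σ => r.2 σ), hθ]; rfl⟩ }
  suffices x ∈ T.radical by
    obtain ⟨N, θ, hθ⟩ := this
    exact ⟨N, θ, hθ.trans (by push_cast; rfl)⟩
  rw [Ideal.radical_eq_sInf, Submodule.mem_sInf]
  rintro P ⟨hTP, hP⟩
  letI : Algebra B A := B.subtype.toAlgebra
  haveI : Algebra.IsIntegral B A := ⟨subring_isIntegral⟩
  obtain ⟨Q, -, hQ, hQP⟩ := Ideal.exists_ideal_over_prime_of_isIntegral (S := A) P (⊥ : Ideal A)
    (le_trans (by rw [← RingHom.ker_eq_comap_bot, (RingHom.injective_iff_ker_eq_bot _).1 (show Function.Injective (algebraMap B A) from Subtype.val_injective)]) bot_le)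
  obtain ⟨N, hN⟩ := exists_pow_mem_galoisIdeal hram hx
  obtain ⟨S, c, h⟩ := (mem_galoisIdeal_iff _).1 hN
  rw [← hQP]
  refine hQ.mem_of_pow_mem N ?_
  show (x : A) ^ N ∈ Q
  have h1 := mul_eq_sum_tr h 1
  rw [mul_one] at h1
  rw [h1]
  refine sum_mem fun y _ => Q.mul_mem_left _ ?_
  have : (⟨tr G (y * 1), fun σ => smul_tr σ _⟩ : B) ∈ P := hTP ⟨_, rfl⟩
  rw [← hQP] at this
  exact this

include hk hGk in
/-- The invariant ring is not regular. -/
theorem not_regular (hdim : 2 ≤ ringKrullDim A) (hcard : Fintype.card G = p)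
    (hram : ∀ P : Ideal A, P.IsPrime → P ≠ maximalIdeal A → P.inertia G = ⊥) :
    ¬ IsRegularLocalRing (FixedPoints.subring A G) := by
  classical
  intro hreg
  refine not_flat hk hGk hdim hcard hram ?_
  obtain ⟨hBn, hfin, hcomp⟩ := subring_finiteness (p := p) hk hGk (by rwa [Nat.card_eq_fintype_card])
  let B := FixedPoints.subring A G
  have hmax : Ideal.comap B.subtype (maximalIdeal A) = maximalIdeal B :=
    IsLocalRing.eq_maximalIdeal isPrime_maximal_comap
  haveI : IsAdicComplete (maximalIdeal B) B := hmax ▸ hcomp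
  letI : Algebra k B := ((algebraMap k A).codRestrict B fun c σ => hGk σ c).toAlgebra
  have hkB : Function.Surjective (residue B ∘ algebraMap k B) := fun z => by
    obtain ⟨b, rfl⟩ := residue_surjective z
    obtain ⟨c, hc⟩ := hk (residue A (b : A))
    refine ⟨c, ?_⟩
    rw [Function.comp_apply, ← sub_eq_zero, ← map_sub, residue_eq_zero_iff, ← hmax]
    show algebraMap k A c - (b : A) ∈ maximalIdeal A
    rw [← residue_eq_zero_iff, map_sub, sub_eq_zero]; exact hc
  obtain ⟨n, hn⟩ := RegLocal.exists_nat_ringKrullDim B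
  obtain ⟨y, hy⟩ := RegLocal.exists_generators (R := B)
  have hgen : (maximalIdeal B).spanFinrank = n := by
    exact_mod_cast ((isRegularLocalRing_iff B).1 hreg).trans hn
  obtain ⟨y, hy⟩ : ∃ y : Fin n → B, Ideal.span (Set.range y) = maximalIdeal B := hgen ▸ ⟨y, hy⟩
  obtain ⟨φ, hφ⟩ := exists_psHom (k := k) (maximalIdeal B) y (fun i => hy ▸ Ideal.subset_span ⟨i, rfl⟩)
  have hrad : (Ideal.span (Set.range y)).radical = maximalIdeal B := by
    rw [hy]; exact (maximalIdeal.isMaximal B).isPrime.radical
  obtain ⟨d, b₀, hd, hb₀⟩ := exists_basis_ps hn hkB y hrad φ hφ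
  have hd1 : d = 1 := by
    have h1 : Module.length B (B ⧸ Ideal.span (Set.range y)) = 1 := by
      rw [hy]
      haveI : IsSimpleModule B (B ⧸ maximalIdeal B) := isSimpleModule_iff_quot_maximal.2 ⟨_, inferInstance, ⟨LinearEquiv.refl _ _⟩⟩
      exact Module.length_eq_one B _
    rw [h1] at hd
    exact_mod_cast hd
  subst hd1
  obtain ⟨r₁, hr₁⟩ := hb₀.2 1
  simp only [Fin.sum_univ_one] at hr₁
  have hu : IsUnit (b₀ 0) := IsUnit.of_mul_eq_one_right _ hr₁
  have hφbij : Function.Bijective φ := by
    refine ⟨fun r r' h => ?_, fun z => ?_⟩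
    · exact congrFun (hb₀.1 (a₁ := fun _ => r) (a₂ := fun _ => r') (by simp [h])) 0
    · obtain ⟨r, hr⟩ := hb₀.2 (z * b₀ 0)
      simp only [Fin.sum_univ_one] at hr
      exact ⟨r 0, hu.mul_right_cancel hr⟩
  let incl : B →ₐ[k] A := { B.subtype with commutes' := fun _ => rfl }
  have hnA : ringKrullDim A = n := by rw [← subring_ringKrullDim (A := A) (G := G)]; exact hn
  have hradA : (Ideal.span (Set.range fun i => (y i : A))).radical = maximalIdeal A := by
    refine le_antisymm ?_ ?_
    · rw [← (maximalIdeal.isMaximal A).isPrime.radical]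
      refine Ideal.radical_mono (Ideal.span_le.2 ?_)
      rintro _ ⟨i, rfl⟩
      have : y i ∈ Ideal.comap B.subtype (maximalIdeal A) := hmax ▸ hy ▸ Ideal.subset_span ⟨i, rfl⟩
      exact this
    · rw [Ideal.radical_eq_sInf]
      refine le_sInf ?_
      rintro P ⟨hQP, hP⟩
      letI : Algebra B A := B.subtype.toAlgebra
      haveI : Algebra.IsIntegral B A := ⟨subring_isIntegral⟩
      have h1 : maximalIdeal B ≤ P.comap (algebraMap B A) := hy ▸ Ideal.span_le.2 (by
        rintro _ ⟨i, rfl⟩; exact hQP (Ideal.subset_span ⟨i, rfl⟩))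
      have h2 : P.comap (algebraMap B A) = maximalIdeal B :=
        ((maximalIdeal.isMaximal B).eq_of_le (Ideal.IsPrime.ne_top inferInstance) h1).symm
      have h3 : P.IsMaximal := Ideal.isMaximal_of_isIntegral_of_isMaximal_comap P (h2 ▸ maximalIdeal.isMaximal B)
      exact (IsLocalRing.eq_maximalIdeal h3).ge
  obtain ⟨d, b₁, -, hb₁⟩ := exists_basis_ps (n := n) hnA hk (fun i => (y i : A)) hradA (incl.comp φ)
    (fun i => by show (φ (MvPowerSeries.X i) : A) = _; rw [hφ])
  have hbij : Function.Bijective (Fintype.linearCombination B b₁) := by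
    have he : (fun r : Fin d → MvPowerSeries (Fin n) k => ∑ i, (incl.comp φ) (r i) * b₁ i) =
        (Fintype.linearCombination B b₁) ∘ (fun r i => φ (r i)) := by
      funext r; rw [Function.comp_apply, Fintype.linearCombination_apply]; rfl
    have hmap : Function.Bijective (fun (r : Fin d → MvPowerSeries (Fin n) k) i => φ (r i)) :=
      (Equiv.piCongrRight fun _ : Fin d => Equiv.ofBijective φ hφbij).bijective
    rw [he] at hb₁
    exact (Function.Bijective.of_comp_iff _ hmap).1 hb₁
  exact Module.Flat.of_linearEquiv (LinearEquiv.ofBijective _ hbij).symm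

end Groth.Agent.WildQuotLib
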