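import Mathlib

/-!
# Frobenius-fixed local cohomology classes of power series rings vanish
-/

open MvPowerSeries

namespace Groth.Agent.WildQuotLib

universe u v

variable {k : Type v} [Field k] {p : ℕ} [hp : Fact p.Prime] [CharP k p]

theorem exists_semilinear (c : k) (hc : c ≠ 0) :
    ∃ l : k →+ k, (∀ a b, l (a ^ p * b) = a * l b) ∧ l c = 1 := by
  classical
  let K : Subfield k := (frobenius k p).fieldRange
  obtain ⟨f, hf⟩ := Module.Projective.exists_dual_eq_one K hc
  let e : k ≃+* K := RingEquiv.ofBijective (frobenius k p).rangeRestrictField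
    ⟨(frobenius k p).rangeRestrictField.injective, fun x => by
      obtain ⟨y, hy⟩ := x.2
      exact ⟨y, Subtype.ext hy⟩⟩
  refine ⟨AddMonoidHom.mk' (fun b => e.symm (f b)) (fun a b => by rw [map_add, map_add]), fun a b => ?_, ?_⟩
  · show e.symm (f (a ^ p * b)) = a * e.symm (f b)
    have h : a ^ p * b = (e a) • b := rfl
    rw [h, map_smul, smul_eq_mul, map_mul, RingEquiv.symm_apply_apply]
  · show e.symm (f c) = 1
    rw [hf, map_one]

variable {σ : Type*} [Finite σ]

/-- Coefficient extraction, semilinear for the Frobenius. -/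
noncomputable def frobPart (p : ℕ) (l : k →+ k) (ρ : σ →₀ ℕ) (f : MvPowerSeries σ k) : MvPowerSeries σ k :=
  fun e => l (coeff (p • e + ρ) f)

omit hp [CharP k p] [Finite σ] in
theorem coeff_frobPart (l : k →+ k) (ρ : σ →₀ ℕ) (f : MvPowerSeries σ k) (e : σ →₀ ℕ) :
    coeff e (frobPart p l ρ f) = l (coeff (p • e + ρ) f) := rfl

omit hp [CharP k p] [Finite σ] in
theorem frobPart_sum (l : k →+ k) (ρ : σ →₀ ℕ) {ι : Type*} (s : Finset ι) (f : ι → MvPowerSeries σ k) :
    frobPart p l ρ (∑ i ∈ s, f i) = ∑ i ∈ s, frobPart p l ρ (f i) := by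
  ext e
  simp [coeff_frobPart, map_sum]

omit hp [CharP k p] in
theorem frobPart_pow_mul [Fact p.Prime] [CharP k p] (l : k →+ k) (hl : ∀ a b, l (a ^ p * b) = a * l b)
    (ρ : σ →₀ ℕ) (hρ : ∀ i, ρ i < p) (a f : MvPowerSeries σ k) :
    frobPart p l ρ (a ^ p * f) = a * frobPart p l ρ f := by
  classical
  have hp := (Fact.out : p.Prime)
  haveI : ExpChar k p := ExpChar.prime hp
  ext e
  rw [coeff_frobPart, coeff_mul, coeff_mul, map_sum]
  have h1 : ∀ d, coeff (p • d) (a ^ p) = (coeff d a) ^ p := fun d => by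
    rw [← map_frobenius_expand p hp.ne_zero, coeff_map, coeff_expand_smul, frobenius_def]
  have h0 : ∀ x : σ →₀ ℕ, (∀ d, x ≠ p • d) → coeff x (a ^ p) = 0 := fun x hx => by
    obtain ⟨i, hi⟩ : ∃ i, ¬ p ∣ x i := by
      by_contra! h
      exact hx (x.mapRange (· / p) (Nat.zero_div p)) (Finsupp.ext fun i => by simp [Nat.mul_div_cancel' (h i)])
    rw [← map_frobenius_expand p hp.ne_zero, coeff_map, coeff_expand_of_not_dvd p hp.ne_zero _ hi, map_zero]
  symm
  refine Finset.sum_of_injOn (fun q => (p • q.1, p • q.2 + ρ)) ?_ ?_ ?_ ?_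
  · intro q _ q' _ h
    simp only [Prod.mk.injEq] at h
    exact Prod.ext (nsmul_right_injective hp.ne_zero h.1) (nsmul_right_injective hp.ne_zero (add_right_cancel h.2))
  · intro q hq
    simp only [Finset.mem_coe, Finset.HasAntidiagonal.mem_antidiagonal] at hq ⊢
    rw [← add_assoc, ← smul_add, hq]
  · intro q hq hnot
    by_cases hq1 : ∀ d, q.1 ≠ p • d
    · rw [h0 _ hq1, zero_mul, map_zero]
    · push Not at hq1
      obtain ⟨d, hd⟩ := hq1
      exfalso
      simp only [Finset.HasAntidiagonal.mem_antidiagonal] at hq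
      have hde : d ≤ e := by
        intro i
        have hi : q.1 i + q.2 i = p * e i + ρ i := by
          have := congrArg (fun z : σ →₀ ℕ => z i) hq
          simpa using this
        rw [hd] at hi
        simp only [Finsupp.smul_apply, smul_eq_mul] at hi
        by_contra hlt
        push Not at hlt
        have h2 : p * (e i + 1) ≤ p * d i := Nat.mul_le_mul_left p hlt
        have := hρ i
        rw [Nat.mul_add, mul_one] at h2
        omega
      refine hnot ⟨(d, e - d), by simp [Finset.HasAntidiagonal.mem_antidiagonal, add_tsub_cancel_of_le hde], ?_⟩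
      refine Prod.ext hd.symm (add_left_cancel (a := q.1) ?_)
      show q.1 + (p • (e - d) + ρ) = q.1 + q.2
      rw [hd, ← add_assoc, ← smul_add, add_tsub_cancel_of_le hde, ← hd]
      exact hq.symm
  · intro q _
    rw [h1, hl, coeff_frobPart]

/-- A Frobenius-fixed class of the top local cohomology killed by a nonzero element is zero. -/
theorem mem_span_of_frob [Fact p.Prime] {ι : Type*} [Fintype ι] (t : ι → MvPowerSeries σ k) (g c : MvPowerSeries σ k)
    (hc : ∀ i, c * t i ∈ Ideal.span (Set.range fun i => t i ^ p))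
    (h : g ^ p - g * c ∈ Ideal.span (Set.range fun i => t i ^ p))
    (r₀ : MvPowerSeries σ k) (hr₀ : r₀ ≠ 0) (hr₀g : r₀ * g ∈ Ideal.span (Set.range t)) :
    g ∈ Ideal.span (Set.range t) := by
  classical
  have hp := (Fact.out : p.Prime)
  set I := Ideal.span (Set.range t)
  set I₂ := Ideal.span (Set.range fun i => t i ^ p)
  have key : ∀ (N : ℕ) (r : MvPowerSeries σ k), r * g ∈ I → ∀ e : σ →₀ ℕ, e.degree = N → coeff e r ≠ 0 → g ∈ I := by
    intro N
    induction N using Nat.strong_induction_on with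
    | _ N ih =>
      intro r hr e he hne
      rcases Nat.eq_zero_or_pos N with hN | hN
      · rw [hN, Finsupp.degree_eq_zero_iff] at he
        rw [he, coeff_zero_eq_constantCoeff_apply] at hne
        have hu : IsUnit r := isUnit_iff_constantCoeff.2 (isUnit_iff_ne_zero.2 hne)
        exact (Ideal.unit_mul_mem_iff_mem _ hu).1 hr
      obtain ⟨l, hl, hlc⟩ := exists_semilinear (p := p) _ hne
      let ρ : σ →₀ ℕ := e.mapRange (· % p) (Nat.zero_mod p)
      let d : σ →₀ ℕ := e.mapRange (· / p) (Nat.zero_div p)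
      have hρ : ∀ i, ρ i < p := fun i => by simp [ρ, Nat.mod_lt _ hp.pos]
      have hde : p • d + ρ = e := Finsupp.ext fun i => by simp [ρ, d, Nat.div_add_mod]
      have hrg : g ^ p * r ∈ I₂ := by
        have h1 : g ^ p * r = (g ^ p - g * c) * r + (r * g) * c := by ring
        rw [h1]
        refine add_mem (Ideal.mul_mem_right _ _ h) ?_
        obtain ⟨a, ha⟩ := (Submodule.mem_span_range_iff_exists_fun _).1 hr
        rw [← ha, Finset.sum_mul]
        refine sum_mem fun i _ => ?_
        rw [smul_eq_mul, mul_assoc, mul_comm (t i) c]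
        exact Ideal.mul_mem_left _ _ (hc i)
      obtain ⟨a, ha⟩ := (Submodule.mem_span_range_iff_exists_fun _).1 hrg
      have h2 : frobPart p l ρ r * g ∈ I := by
        rw [mul_comm, ← frobPart_pow_mul l hl ρ hρ g r, ← ha, frobPart_sum]
        refine sum_mem fun i _ => ?_
        rw [smul_eq_mul, mul_comm (a i), frobPart_pow_mul l hl ρ hρ]
        exact Ideal.mul_mem_right _ _ (Ideal.subset_span (Set.mem_range_self i))
      refine ih d.degree ?_ _ h2 d rfl (by rw [coeff_frobPart, hde, hlc]; exact one_ne_zero)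
      have hdeg : e.degree = p * d.degree + ρ.degree := by
        rw [← hde, map_add, map_nsmul, smul_eq_mul]
      rcases Nat.eq_zero_or_pos d.degree with h0 | h0
      · omega
      · have : 2 * d.degree ≤ p * d.degree := Nat.mul_le_mul_right _ hp.two_le
        omega
  obtain ⟨e, he⟩ : ∃ e, coeff e r₀ ≠ 0 := by
    by_contra! h0
    exact hr₀ (MvPowerSeries.ext fun e => by rw [h0, map_zero])
  exact key _ r₀ hr₀g e rfl he

/-- A Frobenius-fixed class of `H²` on two nonzero parameters is a coboundary. -/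
theorem mem_span_pair_of_frob [Fact p.Prime] (t₁ t₂ g h₁ h₂ : MvPowerSeries σ k) (ht₁ : t₁ ≠ 0)
    (h : g ^ p - g * (t₁ * t₂) ^ (p - 1) = h₁ * t₁ ^ p + h₂ * t₂ ^ p) :
    ∃ α β, g = α * t₁ + β * t₂ := by
  have hp := (Fact.out : p.Prime)
  obtain ⟨q, hq⟩ : ∃ q, p = q + 1 := ⟨p - 1, by have := hp.one_lt; omega⟩
  have hr : Set.range ![t₁, t₂] = {t₁, t₂} := Matrix.range_cons_cons_empty t₁ t₂ ![]
  have hr2 : Set.range (fun i => ![t₁, t₂] i ^ p) = {t₁ ^ p, t₂ ^ p} := by
    rw [← Matrix.range_cons_cons_empty (t₁ ^ p) (t₂ ^ p) ![]]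
    exact congrArg Set.range (funext fun i => by fin_cases i <;> rfl)
  have := mem_span_of_frob (p := p) ![t₁, t₂] g ((t₁ * t₂) ^ (p - 1)) ?_ ?_ t₁ ht₁
    (Ideal.mul_mem_right _ _ (Ideal.subset_span ⟨0, rfl⟩))
  · rw [hr, Ideal.mem_span_pair] at this
    obtain ⟨α, β, h⟩ := this
    exact ⟨α, β, h.symm⟩
  · intro i
    rw [hr2, Ideal.mem_span_pair]
    fin_cases i
    · exact ⟨t₂ ^ q, 0, by rw [hq, Nat.add_sub_cancel]; show _ = _ * t₁; ring⟩
    · exact ⟨0, t₁ ^ q, by rw [hq, Nat.add_sub_cancel]; show _ = _ * t₂; ring⟩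
  · rw [hr2, Ideal.mem_span_pair]
    exact ⟨h₁, h₂, h.symm⟩

end Groth.Agent.WildQuotLib
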