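import Mathlib
import Groth.Agent.WildQuotLib.RamTrace
import Groth.Agent.WildQuotLib.FrobPurity

/-!
# Artin–Schreier data of an action ramified at the origin
-/

open IsLocalRing Pointwise

namespace Groth.Agent.WildQuotLib

universe u v w

section Translate

variable {p : ℕ} [hp : Fact p.Prime] {A : Type u} [CommRing A] [CharP A p]
  {G : Type w} [Group G] [Fintype G] [MulSemiringAction G A] {γ : G} (hcard : Fintype.card G = p) (hγ : γ ≠ 1)

include hcard hγ

omit [MulSemiringAction G A] in
theorem orderOf_gen : orderOf γ = p := by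
  refine orderOf_eq_prime ?_ hγ
  rw [← hcard]; exact pow_card_eq_one

omit [CharP A p] in
theorem tr_eq_sum_range (a : A) : tr G a = ∑ j ∈ Finset.range p, γ ^ j • a := by
  classical
  symm
  have hcard' : Nat.card G = p := by rwa [Nat.card_eq_fintype_card]
  refine Finset.sum_bij (fun j _ => γ ^ j) (fun _ _ => Finset.mem_univ _) (fun i hi j hj h => ?_) (fun σ _ => ?_) (fun _ _ => rfl)
  · rw [Finset.mem_range] at hi hj
    exact pow_injOn_Iio_orderOf (by rw [orderOf_gen hcard hγ]; exact hi) (by rw [orderOf_gen hcard hγ]; exact hj) h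
  · obtain ⟨j, hj, rfl⟩ := (isOfFinOrder_of_finite γ).mem_zpowers_iff_mem_range_orderOf.1
      (mem_zpowers_of_prime_card (g' := σ) hcard' hγ) |> Finset.mem_image.1
    exact ⟨j, by rwa [orderOf_gen hcard hγ] at hj, rfl⟩

/-- An element moved by minus a given trace. -/
theorem exists_translate (θ : A) : ∃ w : A, γ • w = w - tr G θ := by
  refine ⟨∑ j ∈ Finset.range p, (j : A) * γ ^ j • θ, ?_⟩
  obtain ⟨q, hq⟩ : ∃ q, p = q + 1 := ⟨p - 1, by have := hp.out.one_lt; omega⟩
  have hA : ((q + 1 : ℕ) : A) = 0 := hq ▸ CharP.cast_eq_zero A p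
  have hpow : γ ^ (q + 1) = 1 := by rw [← hq, ← orderOf_gen hcard hγ]; exact pow_orderOf_eq_one γ
  rw [Finset.smul_sum, tr_eq_sum_range hcard hγ, ← Finset.sum_sub_distrib, hq]
  have hnat : ∀ j : ℕ, γ • ((j : A)) = (j : A) := fun j => map_natCast (MulSemiringAction.toRingHom G A γ) j
  simp only [smul_mul', hnat, ← mul_smul, ← pow_succ']
  rw [Finset.sum_range_succ, Finset.sum_range_succ', hpow, pow_zero, one_smul]
  have hq' : (q : A) * θ = -θ := by
    rw [Nat.cast_add, Nat.cast_one] at hA
    linear_combination θ * hA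
  rw [hq', Nat.cast_zero, zero_mul, zero_sub]
  congr 1
  refine Finset.sum_congr rfl fun j _ => ?_
  push_cast; ring

omit hcard hγ [CharP A p] [Fintype G] hp in
theorem smul_pow_translate {w s : A} (hs : γ • s = s) (hw : γ • w = w - s) (j : ℕ) : γ ^ j • w = w - (j : A) * s := by
  induction j with
  | zero => simp
  | succ j ih =>
    rw [pow_succ', mul_smul, ih, smul_sub, smul_mul', hs, hw]
    rw [show γ • ((j : A)) = (j : A) from map_natCast (MulSemiringAction.toRingHom G A γ) j]
    push_cast; ring

omit [CharP A p] in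
theorem fixed_of_gen {a : A} (ha : γ • a = a) (σ : G) : σ • a = a := by
  classical
  have hcard' : Nat.card G = p := by rwa [Nat.card_eq_fintype_card]
  obtain ⟨j, -, rfl⟩ := (isOfFinOrder_of_finite γ).mem_zpowers_iff_mem_range_orderOf.1
    (mem_zpowers_of_prime_card (g' := σ) hcard' hγ) |> Finset.mem_image.1
  induction j with
  | zero => rw [pow_zero, one_smul]
  | succ j ih => rw [pow_succ, mul_smul, ha, ih]

omit hcard hγ [Fintype G] in
/-- The constant of the equation of a translated element is invariant. -/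
theorem smul_as {w s : A} (hs : γ • s = s) (hw : γ • w = w - s) :
    γ • (w ^ p - w * s ^ (p - 1)) = w ^ p - w * s ^ (p - 1) := by
  obtain ⟨q, hq⟩ : ∃ q, p = q + 1 := ⟨p - 1, by have := hp.out.one_lt; omega⟩
  rw [smul_sub, smul_pow', smul_mul', smul_pow', hs, hw, sub_pow_char, hq, Nat.add_sub_cancel, sub_mul, pow_succ s]
  ring

end Translate

section Data

variable {p : ℕ} [hp : Fact p.Prime] {A : Type u} [CommRing A] [IsRegularLocalRing A] [CharP A p]
  [IsAdicComplete (maximalIdeal A) A]
  {k : Type v} [Field k] [Algebra k A] {G : Type w} [Group G] [Fintype G] [MulSemiringAction G A]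
  (hk : Function.Surjective (residue A ∘ algebraMap k A))
  (hGk : ∀ (σ : G) (c : k), σ • algebraMap k A c = algebraMap k A c)
  (hcard : Fintype.card G = p) (hram : ∀ P : Ideal A, P.IsPrime → P ≠ maximalIdeal A → P.inertia G = ⊥)

include hk hGk hcard hram

/-- A translated element over a positive power of a fixed non-unit. -/
theorem exists_translate_pow {γ : G} (hγ : γ ≠ 1) {x : A} (hx : x ∈ maximalIdeal A) (hxfix : ∀ σ : G, σ • x = x) :
    ∃ (N : ℕ) (w : A), 0 < N ∧ γ • w = w - x ^ N := by
  obtain ⟨N, θ, hθ⟩ := exists_pow_eq_tr hram (⟨x, hxfix⟩ : FixedPoints.subring A G) hx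
  rcases Nat.eq_zero_or_pos N with rfl | hN
  · exfalso
    have h := tr_mem_maximalIdeal hk hGk hcard θ
    rw [hθ, pow_zero] at h
    exact (maximalIdeal.isMaximal A).ne_top ((Ideal.eq_top_iff_one _).2 h)
  obtain ⟨w, hw⟩ := exists_translate (p := p) hcard hγ θ
  exact ⟨N, w, hN, by rw [hw, hθ]⟩

end Data

section Residue

variable {p : ℕ} [hp : Fact p.Prime] {k : Type v} [Field k] [CharP k p]

open Polynomial in
/-- Artin–Schreier equations have roots if there is no Galois extension of degree `p`. -/
theorem exists_root_as (hkp : ∀ (L : Type v) [Field L] [Algebra k L], IsGalois k L → Module.finrank k L ≠ p) (a : k) :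
    ∃ r : k, r ^ p - r = a := by
  classical
  by_contra! hno
  let f : k[X] := X ^ p - (X + C a)
  have hdeg : (X + C a : k[X]).degree < p := by
    rw [degree_X_add_C]; exact_mod_cast hp.out.one_lt
  have hfm : f.Monic := monic_X_pow_sub hdeg
  have hfd : f.natDegree = p := by
    refine natDegree_eq_of_degree_eq_some ?_
    rw [degree_sub_eq_left_of_degree_lt (by rwa [degree_X_pow]), degree_X_pow]
  have hf0 : f ≠ 0 := hfm.ne_zero
  have hroot : ∀ {L : Type v} [Field L] [Algebra k L] (r : L), aeval r f = 0 ↔ r ^ p - r = algebraMap k L a := fun r => by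
    simp [f, sub_sub, sub_eq_zero]; constructor <;> intro h <;> linear_combination h
  have hshift : ∀ {L : Type v} [Field L] [Algebra k L] (r : L), aeval r f = 0 → ∀ j : ℕ, aeval (r + (j : L)) f = 0 := by
    intro L _ _ r hr j
    haveI : CharP L p := charP_of_injective_algebraMap (algebraMap k L).injective p
    rw [hroot] at hr ⊢
    rw [add_pow_char (p := p), ← frobenius_def (p := p) (x := (j : L)), map_natCast]
    linear_combination hr
  have hprod : ∀ {L : Type v} [Field L] [Algebra k L] (r : L), aeval r f = 0 →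
      f.map (algebraMap k L) = ∏ j ∈ Finset.range p, (X - C (r + (j : L))) := by
    intro L _ _ r hr
    haveI : CharP L p := charP_of_injective_algebraMap (algebraMap k L).injective p
    refine Polynomial.eq_of_monic_of_dvd_of_natDegree_le (monic_prod_X_sub_C _ _) (hfm.map _) ?_ ?_
    · refine Finset.prod_dvd_of_coprime ?_ fun j _ => ?_
      · intro i hi j hj hij
        refine isCoprime_X_sub_C_of_isUnit_sub (isUnit_iff_ne_zero.2 ?_)
        rw [add_sub_add_left_eq_sub, sub_ne_zero]
        exact fun h => hij (CharP.natCast_injOn_Iio L p (Finset.mem_range.1 hi) (Finset.mem_range.1 hj) h)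
      · rw [dvd_iff_isRoot, IsRoot.def, eval_map, ← aeval_def]
        exact hshift r hr j
    · rw [natDegree_map, hfd, natDegree_prod _ _ fun j _ => X_sub_C_ne_zero _,
        Finset.sum_congr rfl fun j _ => natDegree_X_sub_C _]
      simp
  have hirr : Irreducible f := by
    refine hfm.irreducible_iff_natDegree.2 ⟨fun h => by rw [h, natDegree_one] at hfd; exact hp.out.ne_zero hfd.symm, ?_⟩
    intro g h hg hh hgh
    by_contra! hne
    let L := SplittingField f
    haveI : CharP L p := charP_of_injective_algebraMap (algebraMap k L).injective p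
    have hgd : (g.map (algebraMap k L)).degree ≠ 0 := by
      rw [degree_map, degree_eq_natDegree hg.ne_zero]; exact_mod_cast hne.1
    have hsplit : (f.map (algebraMap k L)).Splits := SplittingField.splits f
    obtain ⟨r, hr⟩ := (hsplit.of_dvd (hfm.map _).ne_zero ((mapRingHom _).map_dvd ⟨h, hgh.symm⟩)).exists_eval_eq_zero hgd
    have hrf : aeval r f = 0 := by
      have h' : aeval r (g * h) = 0 := by rw [map_mul, aeval_def, ← eval_map, show eval r (g.map (algebraMap k L)) = 0 from hr, zero_mul]
      rwa [hgh] at h'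
    have hdvd : g.map (algebraMap k L) ∣ ∏ j ∈ Finset.range p, (X - C (r + (j : L))) :=
      hprod r hrf ▸ (mapRingHom _).map_dvd ⟨h, hgh.symm⟩
    have hgs : (g.map (algebraMap k L)).Splits := hsplit.of_dvd (hfm.map _).ne_zero ((mapRingHom _).map_dvd ⟨h, hgh.symm⟩)
    -- the roots of `g` are translates of `r`
    have hroots : ∀ z ∈ (g.map (algebraMap k L)).roots, ∃ j : ℕ, z = r + (j : L) := fun z hz => by
      have h1 := dvd_trans (dvd_iff_isRoot.2 ((mem_roots (hg.map _).ne_zero).1 hz)) hdvd
      rw [dvd_iff_isRoot, IsRoot.def, eval_prod, Finset.prod_eq_zero_iff] at h1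
      obtain ⟨j, -, hj⟩ := h1
      exact ⟨j, by rw [eval_sub, eval_X, eval_C, sub_eq_zero] at hj; exact hj⟩
    have hsum : (g.map (algebraMap k L)).roots.sum ∈ Set.range (algebraMap k L) := by
      have h1 := hgs.nextCoeff_eq_neg_sum_roots_of_monic (hg.map _)
      rw [nextCoeff_map (algebraMap k L).injective] at h1
      exact ⟨-g.nextCoeff, by rw [map_neg, h1, neg_neg]⟩
    have hsum2 : ∀ S : Multiset L, (∀ z ∈ S, ∃ j : ℕ, z = r + (j : L)) → ∃ J : ℕ, S.sum = (Multiset.card S : L) * r + (J : L) := by
      intro S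
      induction S using Multiset.induction_on with
      | empty => exact fun _ => ⟨0, by simp⟩
      | cons z S ih =>
        intro hS
        obtain ⟨j, rfl⟩ := hS z (Multiset.mem_cons_self _ _)
        obtain ⟨J, hJ⟩ := ih fun y hy => hS y (Multiset.mem_cons_of_mem hy)
        exact ⟨j + J, by rw [Multiset.sum_cons, hJ, Multiset.card_cons]; push_cast; ring⟩
    obtain ⟨J, hJ⟩ := hsum2 _ hroots
    obtain ⟨e, he⟩ := hsum
    rw [hJ, ← hgs.natDegree_eq_card_roots, natDegree_map] at he
    have hdlt : g.natDegree < p := by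
      have := congrArg natDegree hgh
      rw [natDegree_mul hg.ne_zero hh.ne_zero, hfd] at this
      omega
    have hd0 : (g.natDegree : k) ≠ 0 := fun h0 => by
      have := Nat.le_of_dvd (Nat.pos_of_ne_zero hne.1) ((CharP.cast_eq_zero_iff k p _).1 h0)
      omega
    refine hno ((e - (J : k)) / (g.natDegree : k)) ((algebraMap k L).injective ?_)
    have hr' : algebraMap k L ((e - (J : k)) / (g.natDegree : k)) = r := by
      rw [map_div₀, map_sub, map_natCast, map_natCast, he, add_sub_cancel_right, mul_div_cancel_left₀]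
      rw [← map_natCast (algebraMap k L)]
      exact fun h0 => hd0 ((algebraMap k L).injective (h0.trans (map_zero _).symm))
    rw [map_sub, map_pow, hr', ← (hroot r).1 hrf]
  haveI : Fact (Irreducible f) := ⟨hirr⟩
  let L := AdjoinRoot f
  have hr : aeval (AdjoinRoot.root f) f = 0 := by
    rw [AdjoinRoot.aeval_eq, AdjoinRoot.mk_self]
  haveI : IsSplittingField k L f := by
    refine ⟨?_, ?_⟩
    · rw [hprod _ hr]
      exact Splits.prod fun j _ => Splits.X_sub_C _
    · refine top_unique ?_
      rw [← AdjoinRoot.adjoinRoot_eq_top]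
      exact Algebra.adjoin_mono (Set.singleton_subset_iff.2 ((mem_rootSet_of_ne hf0).2 hr))
  have hsep : f.Separable := by
    rw [separable_def]
    refine ⟨0, -1, ?_⟩
    simp [f, derivative_X_pow, CharP.cast_eq_zero]
  refine hkp L (IsGalois.of_separable_splitting_field hsep) ?_
  rw [PowerBasis.finrank (AdjoinRoot.powerBasis hf0), AdjoinRoot.powerBasis_dim, hfd]

end Residue

end Groth.Agent.WildQuotLib
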