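import Mathlib
import Groth.Agent.WildQuotLib.Split

/-!
# Automorphisms of the invariant ring extend
-/

open IsLocalRing Pointwise

namespace Groth.Agent.WildQuotLib

universe u v w

theorem exists_psEquiv {A : Type u} [CommRing A] [IsRegularLocalRing A] [IsAdicComplete (maximalIdeal A) A]
    {k : Type v} [Field k] [Algebra k A] (hk : Function.Surjective (residue A ∘ algebraMap k A))
    {n : ℕ} (hn : ringKrullDim A = n) : ∃ φ : MvPowerSeries (Fin n) k →ₐ[k] A, Function.Bijective φ := by
  classical
  obtain ⟨y, hy⟩ := RegLocal.exists_generators (R := A)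
  have hgen : (maximalIdeal A).spanFinrank = n := by
    exact_mod_cast ((isRegularLocalRing_iff A).1 inferInstance).trans hn
  obtain ⟨y, hy⟩ : ∃ y : Fin n → A, Ideal.span (Set.range y) = maximalIdeal A := hgen ▸ ⟨y, hy⟩
  obtain ⟨φ, hφ⟩ := exists_psHom (k := k) (maximalIdeal A) y (fun i => hy ▸ Ideal.subset_span ⟨i, rfl⟩)
  have hrad : (Ideal.span (Set.range y)).radical = maximalIdeal A := by
    rw [hy]; exact (maximalIdeal.isMaximal A).isPrime.radical
  obtain ⟨d, b₀, hd, hb₀⟩ := exists_basis_ps hn hk y hrad φ hφ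
  have hd1 : d = 1 := by
    have h1 : Module.length A (A ⧸ Ideal.span (Set.range y)) = 1 := by
      rw [hy]
      haveI : IsSimpleModule A (A ⧸ maximalIdeal A) := isSimpleModule_iff_quot_maximal.2 ⟨_, inferInstance, ⟨LinearEquiv.refl _ _⟩⟩
      exact Module.length_eq_one A _
    rw [h1] at hd
    exact_mod_cast hd
  subst hd1
  obtain ⟨r₁, hr₁⟩ := hb₀.2 1
  simp only [Fin.sum_univ_one] at hr₁
  have hu : IsUnit (b₀ 0) := IsUnit.of_mul_eq_one_right _ hr₁
  refine ⟨φ, fun r r' h => ?_, fun z => ?_⟩
  · exact congrFun (hb₀.1 (a₁ := fun _ => r) (a₂ := fun _ => r') (by simp [h])) 0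
  · obtain ⟨r, hr⟩ := hb₀.2 (z * b₀ 0)
    simp only [Fin.sum_univ_one] at hr
    exact ⟨r 0, hu.mul_right_cancel hr⟩

section Extension

variable {p : ℕ} [hp : Fact p.Prime] {A : Type u} [CommRing A] [IsDomain A] [CharP A p]
  {k : Type v} [Field k] [Algebra k A] {G : Type w} [Group G] [Fintype G] [MulSemiringAction G A] [SMulCommClass G k A]


omit hp [IsDomain A] [CharP A p] in
theorem smul_aeval (σ : G) (w : A) (Q : Polynomial (FixedPoints.subalgebra k A G)) :
    σ • Polynomial.aeval w Q = Polynomial.aeval (σ • w) Q := by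
  show MulSemiringAction.toRingHom G A σ (Polynomial.aeval w Q) = _
  rw [Polynomial.aeval_def, Polynomial.aeval_def, Polynomial.hom_eval₂]
  congr 1
  exact RingHom.ext fun b => b.2 σ

variable {γ : G} (hcard : Fintype.card G = p) (hγ : γ ≠ 1) {s : (FixedPoints.subalgebra k A G)} {w : A} (hw : γ • w = w - (s : A))

include hcard hγ hw

/-- The equation of a translated element. -/
noncomputable def asEq (p : ℕ) (s : (FixedPoints.subalgebra k A G)) (F : (FixedPoints.subalgebra k A G)) : Polynomial (FixedPoints.subalgebra k A G) :=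
  Polynomial.X ^ p - Polynomial.C (s ^ (p - 1)) * Polynomial.X - Polynomial.C F

omit [IsDomain A] in
theorem exists_const : ∃ F : (FixedPoints.subalgebra k A G), (F : A) = w ^ p - w * (s : A) ^ (p - 1) :=
  ⟨⟨_, fixed_of_gen hcard hγ (smul_as (s.2 γ) hw)⟩, rfl⟩

/-- Everything becomes a polynomial in `w` after multiplying by a power of `s`. -/
theorem exists_poly (a : A) : ∃ Q : Polynomial (FixedPoints.subalgebra k A G), Polynomial.aeval w Q = (s : A) ^ (p - 1) * a := by
  classical
  have hp' := hp.out
  have hord := orderOf_gen hcard hγ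
  let c : A := (s : A)
  let f : ℕ → Polynomial A := fun m =>
    (Polynomial.C (c ^ (p - 1)) - (Polynomial.X - Polynomial.C (w - (m : A) * c)) ^ (p - 1)) * Polynomial.C (γ ^ m • a)
  let P : Polynomial A := ∑ m ∈ Finset.range p, f m
  have hfper : f p = f 0 := by
    simp only [f, CharP.cast_eq_zero, Nat.cast_zero]
    rw [show γ ^ p = 1 by rw [← hord]; exact pow_orderOf_eq_one γ, pow_zero]
  have hfix : P.map (MulSemiringAction.toRingHom G A γ) = P := by
    simp only [P, Polynomial.map_sum]
    have h1 : ∀ m, (f m).map (MulSemiringAction.toRingHom G A γ) = f (m + 1) := fun m => by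
      have hs' : γ • c = c := s.2 γ
      have h2 : γ • (w - (m : A) * c) = w - ((m + 1 : ℕ) : A) * c := by
        rw [smul_sub, smul_mul', show γ • ((m : A)) = (m : A) from map_natCast (MulSemiringAction.toRingHom G A γ) m, hs', hw]
        push_cast; ring
      simp only [f, Polynomial.map_mul, Polynomial.map_sub, Polynomial.map_pow, Polynomial.map_C, Polynomial.map_X,
        MulSemiringAction.toRingHom_apply, smul_pow', hs', h2, ← mul_smul, ← pow_succ']
    simp only [h1]
    obtain ⟨q, hq⟩ : ∃ q, p = q + 1 := ⟨p - 1, by have := hp'.one_lt; omega⟩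
    rw [hq, Finset.sum_range_succ (fun m => f (m + 1)), Finset.sum_range_succ' f, ← hq, hfper]
  have hcoeff : ∀ l, P.coeff l ∈ Set.range (algebraMap (FixedPoints.subalgebra k A G) A) := fun l => by
    have h := congrArg (fun Q => Polynomial.coeff Q l) hfix
    simp only [Polynomial.coeff_map] at h
    exact ⟨⟨P.coeff l, fun σ => fixed_of_gen hcard hγ h σ⟩, rfl⟩
  obtain ⟨Q, hQ⟩ := (Polynomial.mem_lifts _).1 ((Polynomial.lifts_iff_coeff_lifts _).2 hcoeff)
  refine ⟨Q, ?_⟩
  rw [Polynomial.aeval_def, Polynomial.eval₂_eq_eval_map, hQ]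
  simp only [P, f, Polynomial.eval_finsetSum, Polynomial.eval_mul, Polynomial.eval_sub, Polynomial.eval_pow,
    Polynomial.eval_C, Polynomial.eval_X, sub_sub_cancel]
  rw [Finset.sum_eq_single 0]
  · simp [zero_pow (show p - 1 ≠ 0 by have := hp'.one_lt; omega), c]
  · intro m hm hm0
    have h1 : (m : A) ^ (p - 1) = 1 := by
      have h2 : (m : ZMod p) ≠ 0 := fun h => hm0 (Nat.eq_zero_of_dvd_of_lt ((ZMod.natCast_eq_zero_iff m p).1 h) (Finset.mem_range.1 hm))
      have := congrArg (ZMod.castHom (dvd_refl p) A) (ZMod.pow_card_sub_one_eq_one h2)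
      simpa using this
    rw [mul_pow, h1, one_mul, sub_self, zero_mul]
  · intro h; exact absurd (Finset.mem_range.2 hp'.pos) h

/-- A polynomial vanishing at `w` vanishes at every root of the equation of `w`. -/
theorem eval₂_eq_zero_of_aeval (hs : s ≠ 0) {F : (FixedPoints.subalgebra k A G)} (hF : (F : A) = w ^ p - w * (s : A) ^ (p - 1))
    (χ : (FixedPoints.subalgebra k A G) →+* A) {W' : A} (hW : W' ^ p - χ (s ^ (p - 1)) * W' - χ F = 0) (Q : Polynomial (FixedPoints.subalgebra k A G))
    (hQ : Polynomial.aeval w Q = 0) : Q.eval₂ χ W' = 0 := by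
  classical
  have hp' := hp.out
  set f := asEq p s F with hf
  have hdeg : (Polynomial.C (s ^ (p - 1)) * Polynomial.X + Polynomial.C F).degree < (p : WithBot ℕ) :=
    lt_of_le_of_lt (Polynomial.degree_add_le _ _) (max_lt
      (lt_of_le_of_lt ((Polynomial.degree_mul_le _ _).trans (add_le_add Polynomial.degree_C_le Polynomial.degree_X_le))
        (by simpa using hp'.one_lt))
      (lt_of_le_of_lt Polynomial.degree_C_le (by simpa using hp'.pos)))
  have hfm : f.Monic := by
    rw [hf, asEq, sub_sub]
    exact Polynomial.monic_X_pow_sub hdeg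
  have hfd : f.natDegree = p := by
    refine Polynomial.natDegree_eq_of_degree_eq_some ?_
    rw [hf, asEq, sub_sub, Polynomial.degree_sub_eq_left_of_degree_lt (by rwa [Polynomial.degree_X_pow]), Polynomial.degree_X_pow]
  have hfw : Polynomial.aeval w f = 0 := by
    simp only [hf, asEq, map_sub, map_mul, map_pow, Polynomial.aeval_X, Polynomial.aeval_C]
    show w ^ p - (s : A) ^ (p - 1) * w - (F : A) = 0
    rw [hF]; ring
  have hRw : Polynomial.aeval w (Q %ₘ f) = 0 := by
    conv_lhs at hQ => rw [← Polynomial.modByMonic_add_div Q f, map_add, map_mul, hfw, zero_mul, add_zero]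
    exact hQ
  have hR0 : Q %ₘ f = 0 := by
    have hmap : (Q %ₘ f).map (algebraMap (FixedPoints.subalgebra k A G) A) = 0 := by
      have hs0 : (s : A) ≠ 0 := fun h => hs (Subtype.ext h)
      refine Polynomial.eq_zero_of_natDegree_lt_card_of_eval_eq_zero _
        (f := fun j : Fin p => w - ((j : ℕ) : A) * (s : A)) ?_ ?_ ?_
      · intro j j' h
        exact Fin.ext (CharP.natCast_injOn_Iio A p j.2 j'.2 (mul_right_cancel₀ hs0 (sub_right_injective h)))
      · intro j
        rw [Polynomial.eval_map_algebraMap, ← smul_pow_translate (s.2 γ) hw, ← smul_aeval, hRw, smul_zero]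
      · rw [Fintype.card_fin]
        refine lt_of_le_of_lt Polynomial.natDegree_map_le ?_
        rw [← hfd]
        exact Polynomial.natDegree_modByMonic_lt Q hfm fun h => by
          rw [h, Polynomial.natDegree_one] at hfd; exact hp'.ne_zero hfd.symm
    exact (Polynomial.map_eq_zero_iff Subtype.val_injective).1 hmap
  rw [← Polynomial.modByMonic_add_div Q f, hR0, zero_add, Polynomial.eval₂_mul]
  have : f.eval₂ χ W' = 0 := by
    simp only [hf, asEq, Polynomial.eval₂_sub, Polynomial.eval₂_mul, Polynomial.eval₂_pow, Polynomial.eval₂_X, Polynomial.eval₂_C]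
    exact hW
  rw [this, zero_mul]

/-- Extension of an automorphism of the invariants from a root of the transformed equation. -/
theorem exists_extension [IsIntegrallyClosed A] (hs : s ≠ 0) {F : (FixedPoints.subalgebra k A G)} (hF : (F : A) = w ^ p - w * (s : A) ^ (p - 1))
    (φ : (FixedPoints.subalgebra k A G) ≃ₐ[k] (FixedPoints.subalgebra k A G)) {W' : A} (hW : W' ^ p - (φ s : A) ^ (p - 1) * W' - (φ F : A) = 0) :
    ∃ ψ : A →ₐ[k] A, ∀ b : (FixedPoints.subalgebra k A G), ψ b = φ b := by
  classical
  choose Q hQ using exists_poly hcard hγ hw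
  let χ : (FixedPoints.subalgebra k A G) →+* A := (FixedPoints.subalgebra k A G).toSubring.subtype.comp φ.toRingEquiv.toRingHom
  have hχ : ∀ b : (FixedPoints.subalgebra k A G), χ b = (φ b : A) := fun b => rfl
  have hwd : ∀ P P' : Polynomial (FixedPoints.subalgebra k A G), Polynomial.aeval w P = Polynomial.aeval w P' → P.eval₂ χ W' = P'.eval₂ χ W' := by
    intro P P' h
    rw [← sub_eq_zero, ← Polynomial.eval₂_sub]
    refine eval₂_eq_zero_of_aeval hcard hγ hw hs hF χ ?_ _ (by rw [map_sub, h, sub_self])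
    rw [map_pow, hχ, hχ]; exact hW
  have hS : χ (s ^ (p - 1)) ≠ 0 := by
    rw [map_pow, hχ]
    refine pow_ne_zero _ fun h => hs ?_
    exact φ.injective (Subtype.ext (h.trans (by simp)))
  let K := FractionRing A
  have hSK : algebraMap A K (χ (s ^ (p - 1))) ≠ 0 := fun h => hS (IsFractionRing.injective A K (h.trans (map_zero _).symm))
  let Ψ : A → K := fun a => algebraMap A K ((Q a).eval₂ χ W') / algebraMap A K (χ (s ^ (p - 1)))
  have hΨ : ∀ (a : A) (P : Polynomial (FixedPoints.subalgebra k A G)), Polynomial.aeval w P = (s : A) ^ (p - 1) * a →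
      Ψ a * algebraMap A K (χ (s ^ (p - 1))) = algebraMap A K (P.eval₂ χ W') := fun a P hP => by
    rw [div_mul_cancel₀ _ hSK, hwd _ P ((hQ a).trans hP.symm)]
  have hΨb : ∀ b : (FixedPoints.subalgebra k A G), Ψ (b : A) = algebraMap A K (φ b : A) := fun b => by
    refine mul_right_cancel₀ hSK ?_
    rw [hΨ _ (Polynomial.C (s ^ (p - 1) * b)) (by rw [Polynomial.aeval_C]; rfl), Polynomial.eval₂_C, map_mul χ,
      map_mul, mul_comm]
    rfl
  let Ψh : A →+* K :=
    { toFun := Ψ
      map_one' := by
        refine (hΨb 1).trans ?_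
        rw [map_one φ]; exact map_one _
      map_zero' := by
        refine (hΨb 0).trans ?_
        rw [map_zero φ]; exact map_zero _
      map_add' := fun a a' => by
        refine mul_right_cancel₀ hSK ?_
        rw [hΨ _ (Q a + Q a') (by rw [map_add, hQ, hQ]; ring), add_mul, hΨ a _ (hQ a), hΨ a' _ (hQ a'),
          Polynomial.eval₂_add, map_add]
      map_mul' := fun a a' => by
        refine mul_right_cancel₀ hSK (mul_right_cancel₀ hSK ?_)
        have h1 : Polynomial.aeval w (Polynomial.C (s ^ (p - 1)) * Q (a * a')) = Polynomial.aeval w (Q a * Q a') := by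
          rw [map_mul, map_mul, Polynomial.aeval_C, hQ, hQ, hQ]
          show (s : A) ^ (p - 1) * _ = _
          ring
        have h2 := hwd _ _ h1
        rw [Polynomial.eval₂_mul, Polynomial.eval₂_mul, Polynomial.eval₂_C] at h2
        rw [hΨ _ _ (hQ (a * a')), ← map_mul, mul_comm, h2, map_mul, ← hΨ a _ (hQ a), ← hΨ a' _ (hQ a')]
        ring }
  have hint : ∀ a, IsIntegral A (Ψh a) := fun a => by
    let M : Polynomial A := ∏ σ : G, (Polynomial.X - Polynomial.C (σ • a))
    have hcoeff : ∀ l, M.coeff l ∈ Set.range (algebraMap (FixedPoints.subalgebra k A G) A) := fun l => by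
      refine ⟨⟨M.coeff l, fun τ => ?_⟩, rfl⟩
      have h : M.map (MulSemiringAction.toRingHom G A τ) = M := by
        rw [Polynomial.map_prod]
        refine Fintype.prod_bijective (τ * ·) (Group.mulLeft_bijective τ) _ _ fun σ => ?_
        simp [mul_smul]
      conv_rhs => rw [← h]
      rw [Polynomial.coeff_map]; rfl
    obtain ⟨N, hN, -, hNm⟩ := Polynomial.lifts_and_natDegree_eq_and_monic
      ((Polynomial.lifts_iff_coeff_lifts _).2 hcoeff) (Polynomial.monic_prod_X_sub_C _ _)
    refine ⟨N.map χ, hNm.map _, ?_⟩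
    rw [Polynomial.eval₂_map, show (algebraMap A K).comp χ = Ψh.comp (algebraMap (FixedPoints.subalgebra k A G) A) from
      RingHom.ext fun b => (hΨb b).symm, ← Polynomial.hom_eval₂, Polynomial.eval₂_eq_eval_map, hN, Polynomial.eval_prod,
      Finset.prod_eq_zero (Finset.mem_univ (1 : G)) (by simp), map_zero]
  choose ψ hψ using fun a => IsIntegrallyClosed.isIntegral_iff.1 (hint a)
  have hinj := IsFractionRing.injective A K
  have hψb : ∀ b : (FixedPoints.subalgebra k A G), ψ (b : A) = (φ b : A) := fun b => hinj ((hψ _).trans (hΨb b))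
  refine ⟨{ toFun := ψ
            map_one' := hinj (by rw [hψ, map_one, map_one])
            map_zero' := hinj (by rw [hψ, map_zero, map_zero])
            map_add' := fun a a' => hinj (by rw [hψ, map_add Ψh, map_add, hψ, hψ])
            map_mul' := fun a a' => hinj (by rw [hψ, map_mul Ψh, map_mul, hψ, hψ])
            commutes' := fun c => ?_ }, hψb⟩
  refine (hψb (algebraMap k (FixedPoints.subalgebra k A G) c)).trans ?_
  rw [AlgEquiv.commutes]; rfl

omit [IsDomain A] in
/-- An endomorphism fixing the invariants is given by the group. -/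
theorem exists_smul_eq [IsDomain A] (hs : s ≠ 0) (h : A →ₐ[k] A) (hfix : ∀ b : (FixedPoints.subalgebra k A G), h b = b) :
    ∃ σ : G, ∀ a, h a = σ • a := by
  classical
  obtain ⟨F, hF⟩ := exists_const hcard hγ hw
  have hs0 : (s : A) ≠ 0 := fun h => hs (Subtype.ext h)
  let K := FractionRing A
  set T := h w - w with hT
  have hTeq : T ^ p = (s : A) ^ (p - 1) * T := by
    have h1 := congrArg h hF
    rw [map_sub, map_mul, map_pow, map_pow, hfix, hfix] at h1
    rw [hT, sub_pow_char]
    linear_combination -h1 + hF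
  obtain ⟨m, hm⟩ : ∃ m : ℕ, T = (m : A) * (s : A) := by
    have hsK : algebraMap A K (s : A) ≠ 0 := fun h => hs0 (IsFractionRing.injective A K (h.trans (map_zero _).symm))
    haveI : CharP K p := charP_of_injective_algebraMap (IsFractionRing.injective A K) p
    obtain ⟨q, hq⟩ : ∃ q, p = q + 1 := ⟨p - 1, by have := hp.out.one_lt; omega⟩
    have h2 : (algebraMap A K T / algebraMap A K (s : A)) ^ p = algebraMap A K T / algebraMap A K (s : A) := by
      rw [div_pow, ← map_pow, hTeq, map_mul, map_pow, hq, Nat.add_sub_cancel, pow_succ, mul_div_mul_left _ _ (pow_ne_zero _ hsK)]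
    have h3 := (Subfield.mem_bot_iff_pow_eq_self (F := K) (p := p)).2 h2
    rw [← ZMod.fieldRange_castHom_eq_bot p] at h3
    obtain ⟨z, hz⟩ := h3
    refine ⟨z.val, IsFractionRing.injective A K ?_⟩
    rw [map_mul, map_natCast, ← map_natCast (ZMod.castHom (dvd_refl p) K), ZMod.natCast_zmod_val]
    rw [show ZMod.castHom (dvd_refl p) K z = algebraMap A K T / algebraMap A K (s : A) from hz, div_mul_cancel₀ _ hsK]
  obtain ⟨q, hq⟩ : ∃ q, p = q + 1 := ⟨p - 1, by have := hp.out.one_lt; omega⟩
  refine ⟨γ ^ (q * m), fun a => ?_⟩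
  obtain ⟨Q, hQ⟩ := exists_poly hcard hγ hw a
  have hhw : h w = γ ^ (q * m) • w := by
    rw [smul_pow_translate (s.2 γ) hw, show h w = w + (m : A) * (s : A) by rw [← hm, hT]; ring]
    have hA : ((q + 1 : ℕ) : A) = 0 := hq ▸ CharP.cast_eq_zero A p
    push_cast at hA ⊢
    linear_combination ((m : A) * (s : A)) * hA
  have h1 : h (Polynomial.aeval w Q) = Polynomial.aeval (h w) Q := by
    show h.toRingHom (Polynomial.aeval w Q) = _
    rw [Polynomial.aeval_def, Polynomial.aeval_def, Polynomial.hom_eval₂]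
    congr 1
    exact RingHom.ext fun b => hfix b
  rw [hQ, hhw, ← smul_aeval, hQ, map_mul, map_pow, hfix, smul_mul', smul_pow', s.2 (γ ^ (q * m))] at h1
  exact mul_left_cancel₀ (pow_ne_zero _ hs0) h1

end Extension

end Groth.Agent.WildQuotLib
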