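import Mathlib
import Groth.Agent.WildQuotLib.Extend

/-!
# Every automorphism of the invariant ring extends
-/

open IsLocalRing Pointwise

namespace Groth.Agent.WildQuotLib

universe u v w

variable {p : ℕ} [hp : Fact p.Prime] {A : Type u} [CommRing A] [IsRegularLocalRing A] [CharP A p]
  [IsAdicComplete (maximalIdeal A) A]
  {k : Type v} [Field k] [Algebra k A] {G : Type w} [Group G] [Fintype G] [MulSemiringAction G A] [SMulCommClass G k A]

omit hp [CharP A p] [IsAdicComplete (maximalIdeal A) A] in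
theorem isUnit_of_coe {b : FixedPoints.subalgebra k A G} (hb : IsUnit (b : A)) : IsUnit b := by
  obtain ⟨c, hc⟩ := hb.exists_right_inv
  have hcfix : ∀ σ : G, σ • c = c := fun σ => by
    refine hb.mul_left_cancel ?_
    have h := congrArg (σ • ·) hc
    simp only [smul_mul', b.2 σ, smul_one] at h
    rw [h, hc]
  exact IsUnit.of_mul_eq_one (⟨c, hcfix⟩ : FixedPoints.subalgebra k A G) (Subtype.ext hc)

omit hp [CharP A p] in
theorem subalgebra_isIntegral : Algebra.IsIntegral (FixedPoints.subalgebra k A G) A := by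
  refine ⟨fun a => ?_⟩
  obtain ⟨P, hm, hP⟩ := subring_isIntegral (A := A) (G := G) a
  let ι : FixedPoints.subring A G →+* FixedPoints.subalgebra k A G :=
    { toFun := fun b => ⟨b.1, b.2⟩, map_one' := rfl, map_mul' := fun _ _ => rfl, map_zero' := rfl, map_add' := fun _ _ => rfl }
  exact ⟨P.map ι, hm.map ι, by rw [Polynomial.eval₂_map]; exact hP⟩

omit hp [CharP A p] [IsAdicComplete (maximalIdeal A) A] in
theorem map_mem_maximalIdeal (φ : FixedPoints.subalgebra k A G ≃ₐ[k] FixedPoints.subalgebra k A G)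
    {b : FixedPoints.subalgebra k A G} (hb : (b : A) ∈ maximalIdeal A) : (φ b : A) ∈ maximalIdeal A := by
  rw [mem_maximalIdeal, mem_nonunits_iff] at hb ⊢
  intro h
  have h2 : IsUnit b := by simpa using ((isUnit_of_coe h).map φ.symm)
  exact hb (h2.map (FixedPoints.subalgebra k A G).val)

variable (hk : Function.Surjective (residue A ∘ algebraMap k A))
  (hdim : 2 ≤ ringKrullDim A) (hcard : Fintype.card G = p)
  (hram : ∀ P : Ideal A, P.IsPrime → P ≠ maximalIdeal A → P.inertia G = ⊥)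
  (hkp : ∀ (L : Type v) [Field L] [Algebra k L], IsGalois k L → Module.finrank k L ≠ p)

include hk hdim hcard hram hkp

theorem exists_extends_hom (φ : FixedPoints.subalgebra k A G ≃ₐ[k] FixedPoints.subalgebra k A G) :
    ∃ ψ : A →ₐ[k] A, (∀ b : FixedPoints.subalgebra k A G, ψ b = φ b) ∧
      ∀ h : A →ₐ[k] A, (∀ b : FixedPoints.subalgebra k A G, h b = b) → ∃ σ : G, ∀ a, h a = σ • a := by
  classical
  haveI := RegLocal.isDomain A
  haveI : UniqueFactorizationMonoid A := RegLocal.ufd A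
  have hp' := hp.out
  have hGk : ∀ (σ : G) (c : k), σ • algebraMap k A c = algebraMap k A c := fun σ c => smul_algebraMap σ c
  haveI : CharP k p := (algebraMap k A).charP (RingHom.injective _) p
  obtain ⟨γ, hγ, -⟩ := exists_gen (G := G) (p := p) (by rwa [Nat.card_eq_fintype_card])
  obtain ⟨n, hn⟩ := RegLocal.exists_nat_ringKrullDim A
  have hn2 : 2 ≤ n := by rw [hn] at hdim; exact_mod_cast hdim
  obtain ⟨u, φ₀, hφ₀, hrad, hfix⟩ := exists_normPS (p := p) hk hGk hcard hn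
  let x : Fin n → FixedPoints.subalgebra k A G := fun i => ⟨φ₀ (MvPowerSeries.X i), fun σ => hfix σ _⟩
  have hxm : ∀ i, (x i : A) ∈ maximalIdeal A := fun i => by
    show φ₀ (MvPowerSeries.X i) ∈ _
    rw [hφ₀, ← hrad]; exact Ideal.le_radical (Ideal.subset_span ⟨i, rfl⟩)
  have hym : ∀ i, (φ (x i) : A) ∈ maximalIdeal A := fun i => map_mem_maximalIdeal φ (hxm i)
  haveI := subalgebra_isIntegral (A := A) (k := k) (G := G)
  -- the transformed parameters form a system of parameters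
  have hrad' : ∀ E : Fin n → ℕ, (∀ i, 0 < E i) →
      (Ideal.span (Set.range fun i => (φ (x i) : A) ^ E i)).radical = maximalIdeal A := by
    intro E hE
    refine le_antisymm ?_ ?_
    · rw [← (maximalIdeal.isMaximal A).isPrime.radical]
      exact Ideal.radical_mono (Ideal.span_le.2 (by
        rintro _ ⟨i, rfl⟩; exact Ideal.pow_mem_of_mem _ (hym i) _ (hE i)))
    · rw [Ideal.radical_eq_sInf]
      refine le_sInf ?_
      rintro Q ⟨hQ', hQ⟩
      let P₀ := (Q.comap (algebraMap (FixedPoints.subalgebra k A G) A)).comap φ.toRingEquiv.toRingHom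
      have hxP : ∀ i, x i ∈ P₀ := fun i => hQ.mem_of_pow_mem _ (hQ' (Ideal.subset_span ⟨i, rfl⟩))
      obtain ⟨Q', -, hQ'p, hQ'c⟩ := Ideal.exists_ideal_over_prime_of_isIntegral (S := A) P₀ (⊥ : Ideal A)
        (le_trans (by rw [← RingHom.ker_eq_comap_bot, (RingHom.injective_iff_ker_eq_bot _).1
          (show Function.Injective (algebraMap (FixedPoints.subalgebra k A G) A) from Subtype.val_injective)]) bot_le)
      have hm' : maximalIdeal A ≤ Q' := by
        rw [← hrad, hQ'p.radical_le_iff, Ideal.span_le]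
        rintro _ ⟨i, rfl⟩
        have h1 : x i ∈ Q'.comap (algebraMap (FixedPoints.subalgebra k A G) A) := hQ'c ▸ hxP i
        show (∏ σ : G, σ • u i) ∈ Q'
        rw [← hφ₀]; exact h1
      rw [← hrad, hQ.radical_le_iff, Ideal.span_le]
      rintro _ ⟨i, rfl⟩
      have h2 : φ.symm (x i) ∈ P₀ := by
        rw [← hQ'c]; exact hm' (map_mem_maximalIdeal φ.symm (hxm i))
      have h3 : (φ (φ.symm (x i)) : A) ∈ Q := h2
      rw [AlgEquiv.apply_symm_apply] at h3
      show (∏ σ : G, σ • u i) ∈ Q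
      rw [← hφ₀]; exact h3
  set i₀ : Fin n := ⟨0, by omega⟩ with hi₀
  set i₁ : Fin n := ⟨1, by omega⟩ with hi₁
  obtain ⟨N₁, w₁, hN₁, hw₁⟩ := exists_translate_pow (p := p) hk hGk hcard hram hγ (hxm i₀) (x i₀).2
  obtain ⟨N₂, w₂, hN₂, hw₂⟩ := exists_translate_pow (p := p) hk hGk hcard hram hγ (hxm i₁) (x i₁).2
  set s₁ := x i₀ ^ N₁ with hs₁
  set s₂ := x i₁ ^ N₂ with hs₂
  have hw₁' : γ • w₁ = w₁ - (s₁ : A) := by rw [hw₁, hs₁]; push_cast; rfl
  have hw₂' : γ • w₂ = w₂ - (s₂ : A) := by rw [hw₂, hs₂]; push_cast; rfl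
  obtain ⟨F₁, hF₁⟩ := exists_const (p := p) hcard hγ hw₁'
  obtain ⟨F₂, hF₂⟩ := exists_const (p := p) hcard hγ hw₂'
  have hDfix : γ • (w₁ * (s₂ : A) - w₂ * (s₁ : A)) = w₁ * (s₂ : A) - w₂ * (s₁ : A) := by
    rw [smul_sub, smul_mul', smul_mul', hw₁', hw₂', show γ • (s₁ : A) = s₁ from s₁.2 γ, show γ • (s₂ : A) = s₂ from s₂.2 γ]
    ring
  let D : FixedPoints.subalgebra k A G := ⟨_, fun σ => fixed_of_gen (p := p) hcard hγ hDfix σ⟩
  obtain ⟨q, hq⟩ : ∃ q, p = q + 1 := ⟨p - 1, by have := hp'.one_lt; omega⟩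
  have hid : D ^ p - D * (s₁ * s₂) ^ (p - 1) = F₁ * s₂ ^ p - F₂ * s₁ ^ p := by
    refine Subtype.ext ?_
    push_cast
    rw [hF₁, hF₂]
    show (w₁ * (s₂ : A) - w₂ * (s₁ : A)) ^ p - (w₁ * (s₂ : A) - w₂ * (s₁ : A)) * _ = _
    rw [sub_pow_char, hq, Nat.add_sub_cancel]
    ring
  have hid' := congrArg (fun b => (φ b : A)) hid
  simp only [map_sub, map_mul, map_pow] at hid'
  push_cast at hid'
  set S₁ := (φ s₁ : A) with hS₁
  set S₂ := (φ s₂ : A) with hS₂
  have hS₁' : S₁ = (φ (x i₀) : A) ^ N₁ := by rw [hS₁, hs₁, map_pow]; push_cast; rfl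
  have hS₂' : S₂ = (φ (x i₁) : A) ^ N₂ := by rw [hS₂, hs₂, map_pow]; push_cast; rfl
  -- regularity
  have hi01 : i₁ ≠ i₀ := by simp [hi₀, hi₁, Fin.ext_iff]
  let E : Fin n → ℕ := fun i => if i = i₀ then N₁ else if i = i₁ then N₂ else 1
  have hE : ∀ i, 0 < E i := fun i => by simp only [E]; split_ifs <;> omega
  have hset : {l : Fin n | l < i₁} = {i₀} := by
    ext l; simp [hi₀, hi₁, Fin.lt_def, Fin.ext_iff]
  have hreg : ∀ a : A, S₂ ^ p * a ∈ Ideal.span {S₁ ^ p} → a ∈ Ideal.span {S₁ ^ p} := by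
    intro a ha
    have h := prefix_regular hn (fun i => (φ (x i) : A) ^ (E i * p)) (hrad' _ fun i => Nat.mul_pos (hE i) hp'.pos) i₁ (a := a)
    simp only [hset, Set.image_singleton, E, if_neg hi01, if_pos] at h
    rw [pow_mul, pow_mul, ← hS₁', ← hS₂'] at h
    exact h ha
  have hS₁0 : S₁ ≠ 0 := by
    intro h0
    have h := prefix_regular hn (fun i => (φ (x i) : A) ^ E i) (hrad' E hE) i₀ (a := (1 : A))
    have hset0 : {l : Fin n | l < i₀} = ∅ := by ext l; simp [hi₀, Fin.lt_def]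
    simp only [hset0, Set.image_empty, Ideal.span_empty, Ideal.mem_bot, E, if_pos, ← hS₁', h0] at h
    exact one_ne_zero (h (by simp))
  -- split in the power series ring
  obtain ⟨Φ, hΦ⟩ := exists_psEquiv hk hn
  obtain ⟨g, hg⟩ := hΦ.2 (φ D : A)
  obtain ⟨h₁, hh₁⟩ := hΦ.2 (φ F₁ : A)
  obtain ⟨h₂, hh₂⟩ := hΦ.2 (φ F₂ : A)
  obtain ⟨t₁, ht₁⟩ := hΦ.2 S₁
  obtain ⟨t₂, ht₂⟩ := hΦ.2 S₂
  obtain ⟨α, β, hαβ⟩ := mem_span_pair_of_frob (p := p) t₁ t₂ g (-h₂) h₁ (fun h => hS₁0 (by rw [← ht₁, h, map_zero]))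
    (hΦ.1 (by simp only [map_sub, map_add, map_mul, map_pow, map_neg, hg, hh₁, hh₂, ht₁, ht₂]; linear_combination hid'))
  set a := Φ α with ha
  set b := Φ β with hb
  have hDab : (φ D : A) = a * S₁ + b * S₂ := by rw [← hg, hαβ, map_add, map_mul, map_mul, ht₁, ht₂]
  have hdvd : S₂ ^ p * ((φ F₁ : A) - b ^ p + b * S₁ ^ (p - 1)) ∈ Ideal.span {S₁ ^ p} := by
    rw [Ideal.mem_span_singleton']
    refine ⟨(φ F₂ : A) + a ^ p - a * S₂ ^ (p - 1), ?_⟩
    rw [hDab, add_pow_char, hq, Nat.add_sub_cancel] at hid'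
    rw [hq, Nat.add_sub_cancel]
    linear_combination hid'
  obtain ⟨f', hf'⟩ := Ideal.mem_span_singleton'.1 (hreg _ hdvd)
  -- a root of the reduced equation
  obtain ⟨c, hc⟩ := hk (residue A f')
  obtain ⟨r, hr⟩ := exists_root_as (p := p) hkp c
  haveI : HenselianLocalRing A :=
    { is_henselian := fun f hf a₀ h₁ h₂ =>
        HenselianRing.is_henselian (R := A) (I := maximalIdeal A) f hf a₀ h₁ (h₂.map _) }
  let P : Polynomial A := Polynomial.X ^ p - (Polynomial.X + Polynomial.C f')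
  have hPm : P.Monic := Polynomial.monic_X_pow_sub (by rw [Polynomial.degree_X_add_C]; exact_mod_cast hp'.one_lt)
  obtain ⟨v, hv, -⟩ := HenselianLocalRing.is_henselian P hPm (algebraMap k A r) (by
      simp only [P, Polynomial.eval_sub, Polynomial.eval_pow, Polynomial.eval_X, Polynomial.eval_add, Polynomial.eval_C]
      have he : algebraMap k A r ^ p - (algebraMap k A r + f') = algebraMap k A c - f' := by
        rw [← hr, map_sub, map_pow]; ring
      rw [he, ← residue_eq_zero_iff, map_sub, ← hc, Function.comp_apply, sub_self])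
    (by simp [P, Polynomial.derivative_X_pow, CharP.cast_eq_zero])
  simp only [P, Polynomial.IsRoot.def, Polynomial.eval_sub, Polynomial.eval_pow, Polynomial.eval_X, Polynomial.eval_add,
    Polynomial.eval_C] at hv
  have hW : (b + S₁ * v) ^ p - S₁ ^ (p - 1) * (b + S₁ * v) - (φ F₁ : A) = 0 := by
    rw [add_pow_char, mul_pow]
    have hSp : S₁ ^ p = S₁ ^ (p - 1) * S₁ := by rw [← pow_succ, Nat.sub_add_cancel hp'.one_le]
    linear_combination (S₁ ^ p) * hv + hf' + v * hSp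
  have hs₁0 : s₁ ≠ 0 := fun h => hS₁0 (by rw [hS₁, h, map_zero]; rfl)
  obtain ⟨ψ, hψ⟩ := exists_extension (p := p) hcard hγ hw₁' hs₁0 hF₁ φ hW
  exact ⟨ψ, hψ, fun h hh => exists_smul_eq (p := p) hcard hγ hw₁' hs₁0 h hh⟩

theorem exists_extends (φ : FixedPoints.subalgebra k A G ≃ₐ[k] FixedPoints.subalgebra k A G) :
    ∃ ψ : A ≃ₐ[k] A, ∀ x : FixedPoints.subalgebra k A G, ψ x = φ x := by
  obtain ⟨ψ, hψ, hcl⟩ := exists_extends_hom hk hdim hcard hram hkp φ
  obtain ⟨ψ', hψ', -⟩ := exists_extends_hom hk hdim hcard hram hkp φ.symm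
  obtain ⟨σ, hσ⟩ := hcl (ψ'.comp ψ) fun b => by
    show ψ' (ψ b) = b
    rw [hψ, hψ', AlgEquiv.symm_apply_apply]
  obtain ⟨τ, hτ⟩ := hcl (ψ.comp ψ') fun b => by
    show ψ (ψ' b) = b
    rw [hψ', hψ, AlgEquiv.apply_symm_apply]
  have hinj : Function.Injective ψ := fun a a' h => by
    refine MulAction.injective σ ?_
    show σ • a = σ • a'
    rw [← hσ, ← hσ]
    exact congrArg ψ' h
  have hsurj : Function.Surjective ψ := fun a => ⟨ψ' (τ⁻¹ • a), by
    show (ψ.comp ψ') (τ⁻¹ • a) = a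
    rw [hτ, smul_inv_smul]⟩
  exact ⟨AlgEquiv.ofBijective ψ ⟨hinj, hsurj⟩, hψ⟩

end Groth.Agent.WildQuotLib
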