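import Mathlib
import Groth.Agent.WildQuotLib.Family

/-!
# The complete intersection of the minor elements
-/

open MvPolynomial

namespace Groth.Agent.WildQuotLib

universe u

variable {R : Type u} [CommRing R] {n : ℕ} {p : ℕ}

/-- The coefficients `a'` of the family of minors through `i₀`. -/
def minorA (a : Fin n → R) (μ : R) (i₀ : Fin n) (j : {j : Fin n // j ≠ i₀}) : R := μ * a i₀ * a j.1

/-- The constants `d'` of the family of minors through `i₀`. -/
def minorD (p : ℕ) (a x : Fin n → R) (i₀ : Fin n) (j : {j : Fin n // j ≠ i₀}) : R :=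
  a i₀ ^ p * x j.1 - a j.1 ^ p * x i₀

variable [hp : Fact p.Prime] [CharP R p] [Nontrivial R]

variable (a : Fin n → R) (μ : R) (x : Fin n → R) (i₀ : Fin n) [IsDomain (ASRing p (fun i => μ * a i) x)]

local notation "A'" => ASRing p (fun i => μ * a i) x
local notation "u'" => gen (asPoly p (fun i => μ * a i) x)

/-- The minor element. -/
noncomputable def minor (j : {j : Fin n // j ≠ i₀}) : A' :=
  algebraMap R A' (a i₀) * u' j.1 - algebraMap R A' (a j.1) * u' i₀

theorem minor_root (j : {j : Fin n // j ≠ i₀}) :
    Polynomial.aeval (minor (p := p) a μ x i₀ j) (asPoly p (minorA a μ i₀) (minorD p a x i₀) j) = 0 := by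
  haveI := charP_AS (p := p) (fun i => μ * a i) x
  obtain ⟨q, hq⟩ : ∃ q, p - 1 = q := ⟨_, rfl⟩
  have hpq : p = q + 1 := by have := hp.out.one_lt; omega
  rw [aeval_asPoly, minor, sub_pow_char, mul_pow, mul_pow, gen_rel, gen_rel, minorA, minorD, hq]
  simp only [map_sub, map_mul, map_pow, mul_pow]
  have e1 : ∀ z : A', z ^ p = z ^ q * z := fun z => by rw [← pow_succ, ← hpq]
  rw [e1 (algebraMap R A' (a i₀)), e1 (algebraMap R A' (a j.1))]
  ring

/-- The map of the complete intersection to the big family. -/
noncomputable def minorHom : ASRing p (minorA a μ i₀) (minorD p a x i₀) →ₐ[R] A' :=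
  lift _ (minor (p := p) a μ x i₀) (minor_root a μ x i₀)

@[simp] theorem minorHom_gen (j : {j : Fin n // j ≠ i₀}) :
    minorHom a μ x i₀ (gen (asPoly p (minorA a μ i₀) (minorD p a x i₀)) j) = minor (p := p) a μ x i₀ j :=
  lift_gen _ _ _ j

variable (hμ : μ ≠ 0) (ha : ∀ i, a i ≠ 0) [IsDomain R]

include hμ ha

theorem minorHom_injective : Function.Injective (minorHom (p := p) a μ x i₀) := by
  classical
  rw [injective_iff_map_eq_zero]
  intro t ht
  obtain ⟨b, hb⟩ := exists_basis_AS (p := p) (minorA a μ i₀) (minorD p a x i₀)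
  let r : ({j : Fin n // j ≠ i₀} → Fin p) → R := fun e => b.repr t e
  let P : MvPolynomial {j : Fin n // j ≠ i₀} R :=
    ∑ e, monomial (Finsupp.equivFunOnFinite.symm fun j => (e j : ℕ)) (r e)
  have hmk : Ideal.Quotient.mk (monicIdeal (asPoly p (minorA a μ i₀) (minorD p a x i₀))) P = t := by
    rw [map_sum]
    conv_rhs => rw [← b.sum_repr t]
    refine Finset.sum_congr rfl fun e _ => ?_
    rw [monomial_eq, map_mul, Finsupp.prod_fintype _ _ (fun i => pow_zero _), map_prod, hb]
    simp only [map_pow]
    exact (Algebra.smul_def (r e) _).symm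
  have hz : aeval (minor (p := p) a μ x i₀) P = 0 := by
    rw [← hmk] at ht
    exact ht
  haveI := charP_AS (p := p) (fun i => μ * a i) x
  have hinj := algebraMap_injective_AS (p := p) (fun i => μ * a i) x
  let c : {j : Fin n // j ≠ i₀} → A' := fun j => algebraMap R A' (a i₀ * (μ * a j.1))
  have hc : ∀ j, c j ≠ 0 := fun j h =>
    mul_ne_zero (ha i₀) (mul_ne_zero hμ (ha j.1)) (hinj (h.trans (map_zero _).symm))
  -- `P` vanishes on the translates
  have hPA : MvPolynomial.map (algebraMap R A') P = 0 := by
    refine eq_zero_of_eval_zero_at_prod_finset _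
      (fun j => Finset.univ.image fun m : Fin p => minor (p := p) a μ x i₀ j + ((m : ℕ) : A') * c j) (fun j => ?_) ?_
    · rw [Finset.card_image_of_injective _ (fun m m' h => Fin.ext (CharP.natCast_injOn_Iio A' p m.2 m'.2
        (mul_right_cancel₀ (hc j) (add_left_cancel h)))), Finset.card_univ, Fintype.card_fin]
      rw [degreeOf_lt_iff hp.out.pos]
      intro e he
      have he' := support_map_subset _ _ he
      obtain ⟨e', -, he''⟩ := Finset.mem_biUnion.1 (support_sum he')
      rw [Finset.mem_singleton.1 (support_monomial_subset he'')]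
      simp
    · intro y hy
      simp only [Finset.mem_image, Finset.mem_univ, true_and] at hy
      choose m hm using hy
      let s : Fin n → R := fun i => if h : i = i₀ then 0 else ((m ⟨i, h⟩ : ℕ) : R) * (μ * a i)
      have hs : ∀ i, s i ^ p = (μ * a i) ^ (p - 1) * s i := by
        intro i
        simp only [s]
        split_ifs with h
        · rw [zero_pow hp.out.ne_zero, mul_zero]
        · rw [mul_pow, ← frobenius_def, map_natCast, mul_left_comm, ← pow_succ, Nat.sub_add_cancel hp.out.one_le]
      obtain ⟨τ, hτ⟩ := exists_shift (p := p) (fun i => μ * a i) x s hs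
      have hy' : y = fun j => (τ : A' →ₐ[R] A') (minor (p := p) a μ x i₀ j) := by
        funext j
        show y j = τ (minor (p := p) a μ x i₀ j)
        rw [← hm j, minor, map_sub, map_mul, map_mul, AlgEquiv.commutes, AlgEquiv.commutes, hτ, hτ]
        have h0 : s i₀ = 0 := dif_pos rfl
        have h1 : s j.1 = ((m j : ℕ) : R) * (μ * a j.1) := dif_neg j.2
        rw [h0, h1]
        simp only [c, map_zero, map_mul, map_natCast, add_zero]
        ring
      rw [eval_map, hy', ← aeval_def, ← comp_aeval]
      show τ (aeval (minor (p := p) a μ x i₀) P) = 0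
      rw [hz, map_zero]
  have hP : P = 0 := map_injective _ hinj (hPA.trans (map_zero _).symm)
  rw [← hmk, hP, map_zero]

theorem isDomain_minorCI : IsDomain (ASRing p (minorA a μ i₀) (minorD p a x i₀)) :=
  (minorHom_injective a μ x i₀ hμ ha).isDomain _

theorem range_minorHom : (minorHom (p := p) a μ x i₀).range = Algebra.adjoin R (Set.range (minor (p := p) a μ x i₀)) := by
  rw [← Algebra.map_top, ← adjoin_gen, AlgHom.map_adjoin, ← Set.range_comp]
  exact congrArg _ (congrArg Set.range (funext fun j => minorHom_gen a μ x i₀ j))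

end Groth.Agent.WildQuotLib
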