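import Mathlib

/-!
# Ramification break of an automorphism of `k[[X]]` of order `p`
-/

open PowerSeries

namespace Groth.Agent.WildQuotLib

universe u

variable {k : Type u} [Field k]

theorem exists_eq_X_pow_mul {w : PowerSeries k} {o : ℕ} (ho : w.order = (o : ℕ∞)) :
    ∃ g, w = X ^ o * g ∧ constantCoeff g ≠ 0 := by
  have hw : w ≠ 0 := fun h => by simp [h] at ho
  refine ⟨w.divXPowOrder, ?_, fun h => hw (constantCoeff_divXPowOrder_eq_zero_iff.1 h)⟩
  conv_lhs => rw [← X_pow_order_mul_divXPowOrder (f := w), ho]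
  simp

theorem order_X_pow_mul {o : ℕ} {g : PowerSeries k} (hg : constantCoeff g ≠ 0) :
    (X ^ o * g).order = (o : ℕ∞) := by
  rw [order_mul, order_X_pow, order_zero_of_unit (isUnit_iff_constantCoeff.2 (isUnit_iff_ne_zero.2 hg)), add_zero]

variable (σ : PowerSeries k ≃ₐ[k] PowerSeries k) {p : ℕ} [hp : Fact p.Prime] [CharP k p]
  (hσp : σ ^ p = 1) {m : ℕ} (hm : (σ X - X).order = ((m + 1 : ℕ) : ℕ∞))

include hm

theorem exists_eps : ∃ ε, σ X = X * (1 + X ^ m * ε) ∧ constantCoeff ε ≠ 0 := by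
  obtain ⟨ε, hε, hε0⟩ := exists_eq_X_pow_mul hm
  refine ⟨ε, ?_, hε0⟩
  rw [← sub_add_cancel (σ X) X, hε]; ring

/-- `σ g ≡ g` modulo `X ^ (m + 1)`. -/
theorem X_pow_dvd_sub (g : PowerSeries k) : X ^ (m + 1) ∣ σ g - g := by
  suffices ∀ j, j ≤ m + 1 → ∀ g, X ^ j ∣ σ g - g from this _ le_rfl g
  intro j
  induction j with
  | zero => exact fun _ g => by simp
  | succ j ih =>
    intro hj g
    obtain ⟨g₁, hg₁⟩ : X ∣ g - C (constantCoeff g) := X_dvd_iff.2 (by simp)
    obtain ⟨ε, hε, -⟩ := exists_eps σ hm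
    have h1 : σ g - g = (σ X - X) * σ g₁ + X * (σ g₁ - g₁) := by
      have hg : g = X * g₁ + C (constantCoeff g) := (eq_add_of_sub_eq hg₁)
      have hC : σ (C (constantCoeff g)) = C (constantCoeff g) := σ.commutes _
      conv_lhs => rw [hg, map_add, map_mul, hC]
      ring
    rw [h1]
    refine dvd_add ?_ ?_
    · rw [hε]
      refine dvd_mul_of_dvd_left ?_ _
      rw [show X * (1 + X ^ m * ε) - X = X ^ (m + 1) * ε by ring]
      exact (pow_dvd_pow _ hj).mul_right ε
    · rw [pow_succ']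
      exact mul_dvd_mul_left _ (ih (by omega) g₁)

theorem constantCoeff_map (g : PowerSeries k) : constantCoeff (σ g) = constantCoeff g := by
  have h := dvd_trans (dvd_pow_self X (Nat.succ_ne_zero m)) (X_pow_dvd_sub σ hm g)
  rwa [X_dvd_iff, map_sub, sub_eq_zero] at h

include hσp in
/-- The break is positive. -/
theorem break_pos : 0 < m := by
  by_contra h
  obtain rfl : m = 0 := by omega
  obtain ⟨ε, hε, hε0⟩ := exists_eps σ hm
  rw [pow_zero, one_mul] at hε
  set c := 1 + constantCoeff ε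
  have hiter : ∀ j : ℕ, ∃ g, (σ ^ j) X = X * g ∧ constantCoeff g = c ^ j := by
    intro j
    induction j with
    | zero => exact ⟨1, by simp, by simp⟩
    | succ j ih =>
      obtain ⟨g, hg, hgc⟩ := ih
      refine ⟨(1 + ε) * σ g, ?_, ?_⟩
      · rw [pow_succ', AlgEquiv.mul_apply, hg, map_mul, hε]; ring
      · rw [map_mul, constantCoeff_map σ hm, hgc, pow_succ']; simp [c]
  obtain ⟨g, hg, hgc⟩ := hiter p
  rw [hσp] at hg
  have hg1 : g = 1 := mul_left_cancel₀ X_ne_zero (by rw [← hg]; simp)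
  rw [hg1, map_one] at hgc
  have h1 : (c - 1) ^ p = 0 := by rw [sub_pow_char, ← hgc]; simp
  exact hε0 (by simpa [c] using pow_eq_zero_iff hp.out.ne_zero |>.1 h1)

include hσp in
/-- The order of `σ w - w`. -/
theorem order_sub {w : PowerSeries k} {o : ℕ} (ho : w.order = (o : ℕ∞)) :
    X ^ (o + m) ∣ σ w - w ∧ (¬ p ∣ o → (σ w - w).order = ((o + m : ℕ) : ℕ∞)) := by
  obtain ⟨g, rfl, hg0⟩ := exists_eq_X_pow_mul ho
  obtain ⟨ε, hε, hε0⟩ := exists_eps σ hm
  obtain ⟨q, hq⟩ := X_pow_dvd_sub σ hm g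
  have hm0 := break_pos σ hσp hm
  set t := X ^ m * ε with ht
  let h : PowerSeries k := (∑ j ∈ Finset.range o, (1 + t) ^ j) * ε * σ g + X * q
  have key : σ (X ^ o * g) - X ^ o * g = X ^ (o + m) * h := by
    have hgeom : (∑ j ∈ Finset.range o, (1 + t) ^ j) * t = (1 + t) ^ o - 1 := by
      have := geom_sum_mul (1 + t) o
      rwa [add_sub_cancel_left] at this
    have h' : (1 + t) ^ o = 1 + (∑ j ∈ Finset.range o, (1 + t) ^ j) * t := by rw [hgeom]; ring
    have hg' : σ g = g + X ^ (m + 1) * q := by rw [← hq]; ring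
    rw [map_mul, map_pow, hε, mul_pow, h']
    simp only [h]
    rw [hg', ht, pow_add, pow_succ]
    ring
  have hh0 : constantCoeff h = (o : k) * constantCoeff ε * constantCoeff g := by
    simp [h, ht, constantCoeff_map σ hm, zero_pow hm0.ne']
  refine ⟨key ▸ dvd_mul_right _ _, fun hpo => ?_⟩
  rw [key]
  refine order_X_pow_mul ?_
  rw [hh0]
  exact mul_ne_zero (mul_ne_zero (fun h => hpo ((CharP.cast_eq_zero_iff k p o).1 h)) hε0) hg0

include hσp in
theorem order_sub_ge (w : PowerSeries k) {o : ℕ} (ho : (o : ℕ∞) ≤ w.order) :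
    ((o + m : ℕ) : ℕ∞) ≤ (σ w - w).order := by
  rcases eq_or_ne w 0 with rfl | hw
  · simp
  obtain ⟨d, hd⟩ : ∃ d : ℕ, w.order = (d : ℕ∞) := ⟨_, (coe_toNat_order hw).symm⟩
  obtain ⟨q, hq⟩ := (order_sub σ hσp hm hd).1
  rw [hq, order_mul, order_X_pow]
  refine le_trans ?_ le_self_add
  rw [hd] at ho
  have : o ≤ d := by exact_mod_cast ho
  exact_mod_cast Nat.add_le_add_right this m

include hσp in
theorem dvd_order_of_fixed {w : PowerSeries k} {o : ℕ} (ho : w.order = (o : ℕ∞)) (hw : σ w = w) : p ∣ o := by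
  by_contra h
  have := (order_sub σ hσp hm ho).2 h
  rw [hw, sub_self, order_zero] at this
  exact ENat.top_ne_coe _ this

include hσp in
theorem order_map {w : PowerSeries k} {o : ℕ} (ho : w.order = (o : ℕ∞)) : (σ w).order = (o : ℕ∞) := by
  obtain ⟨g, rfl, hg0⟩ := exists_eq_X_pow_mul ho
  obtain ⟨ε, hε, -⟩ := exists_eps σ hm
  have hm0 := break_pos σ hσp hm
  rw [map_mul, map_pow, hε, mul_pow, mul_assoc]
  refine order_X_pow_mul ?_
  simp [constantCoeff_map σ hm, zero_pow hm0.ne', hg0]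

include hσp in
/-- The norm of the uniformiser. -/
theorem norm_X : (σ (∏ i ∈ Finset.range p, (σ ^ i) X) = ∏ i ∈ Finset.range p, (σ ^ i) X) ∧
    (∏ i ∈ Finset.range p, (σ ^ i) X).order = (p : ℕ∞) := by
  constructor
  · rw [map_prod]
    obtain ⟨q, hq⟩ : ∃ q, p = q + 1 := ⟨p - 1, by have := hp.out.one_lt; omega⟩
    have h1 : ∀ i, σ ((σ ^ i) X) = (σ ^ (i + 1)) X := fun i => by rw [pow_succ', AlgEquiv.mul_apply]
    simp only [h1]
    rw [hq, Finset.prod_range_succ (fun i => (σ ^ (i + 1)) X), Finset.prod_range_succ' (fun i => (σ ^ i) X),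
      ← hq, hσp, pow_zero]
  · have h1 : ∀ i, ((σ ^ i) X).order = (1 : ℕ) := by
      intro i
      induction i with
      | zero => simp
      | succ i ih => rw [pow_succ', AlgEquiv.mul_apply]; exact order_map σ hσp hm ih
    rw [order_prod, Finset.sum_congr rfl (fun i _ => h1 i)]
    simp

end Groth.Agent.WildQuotLib
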